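import Mathlib

/-!
# LV, regular eigenvectors modulo large primes (helper63)

* `exists_big` : a polynomial with constant coefficient `1` has a large prime divisor at the large `t ≡ 1` modulo `n`, `p ∣ t`;
* `exists_mod` : a regular eigenvector of `A` in characteristic `0` gives a regular fixed vector of `t • A` modulo a large prime.
-/

set_option autoImplicit false

namespace Cfsg.Agent.LV.One

open Polynomial Matrix

theorem exists_gt {g : ℤ[X]} (hg : 0 < g.natDegree) (n : ℕ) : ∃ t₀ : ℕ, ∀ t : ℕ, t₀ < t → n < (g.eval (t : ℤ)).natAbs := by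
  classical
  let S : Finset ℤ := (Finset.Icc (-n : ℤ) n).biUnion fun v => (g - C v).roots.toFinset
  refine ⟨S.sup Int.natAbs, fun t ht => ?_⟩
  by_contra h
  have h1 : (t : ℤ) ∈ S := Finset.mem_biUnion.2 ⟨g.eval (t : ℤ), Finset.mem_Icc.2 (by omega), by
    rw [Multiset.mem_toFinset, mem_roots fun e => ?_]
    · simp
    · rw [sub_eq_zero.1 e, natDegree_C] at hg
      exact hg.false⟩
  have h2 := Finset.le_sup (f := Int.natAbs) h1
  rw [Int.natAbs_natCast] at h2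
  omega

theorem exists_big {g : ℤ[X]} (hg : 0 < g.natDegree) (h0 : g.coeff 0 = 1) (h1 : g.eval 1 ≠ 0) {p : ℕ} (hp : p.Prime) (B : ℕ) :
    ∃ n t₀ : ℕ, n.Coprime p ∧ ∀ t : ℕ, p ∣ t → t ≡ 1 [MOD n] → t₀ < t →
      ∃ r : ℕ, r.Prime ∧ B < r ∧ r ≠ p ∧ (r : ℤ) ∣ g.eval (t : ℤ) := by
  have h2 : (g.eval 1).natAbs ≠ 0 := Int.natAbs_ne_zero.2 h1
  have h3 : (g.eval 1).natAbs * B.factorial ≠ 0 := mul_ne_zero h2 B.factorial_ne_zero
  obtain ⟨t₀, ht₀⟩ := exists_gt hg (g.eval 1).natAbs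
  refine ⟨ordCompl[p] ((g.eval 1).natAbs * B.factorial), t₀, (Nat.coprime_ordCompl hp h3).symm, fun t ht hn hl => ?_⟩
  have h4 : ¬ (p : ℤ) ∣ g.eval (t : ℤ) := fun h => by
    have h5 := (Int.natCast_dvd_natCast.2 ht).trans (by simpa using sub_dvd_eval_sub (t : ℤ) 0 g)
    rw [← coeff_zero_eq_eval_zero, h0] at h5
    have h6 := dvd_sub h h5
    rw [sub_sub_cancel] at h6
    exact hp.not_dvd_one (Int.natCast_dvd_natCast.1 h6)
  by_contra h
  push Not at h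
  refine absurd (Nat.le_of_dvd (Nat.pos_of_ne_zero h2) ((Nat.dvd_iff_prime_pow_dvd_dvd _ _).2 fun s j hs hj => ?_))
    (ht₀ t hl).not_ge
  by_contra h5
  set ν := (g.eval 1).natAbs.factorization s
  have h6 : s ^ (ν + 1) ∣ (g.eval (t : ℤ)).natAbs :=
    (pow_dvd_pow s (not_le.1 fun e => h5 ((hs.pow_dvd_iff_le_factorization h2).2 e))).trans hj
  have h7 : (s : ℤ) ∣ g.eval (t : ℤ) := Int.natCast_dvd.2 ((dvd_pow_self s ν.succ_ne_zero).trans h6)
  have h8 : s ≠ p := fun e => h4 (e ▸ h7)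
  have h9 : s ^ (ν + 1) ∣ ordCompl[p] ((g.eval 1).natAbs * B.factorial) := by
    refine (((Nat.coprime_primes hs hp).2 h8).pow _ (((g.eval 1).natAbs * B.factorial).factorization p)).dvd_of_dvd_mul_left ?_
    rw [Nat.ordProj_mul_ordCompl_eq_self, pow_succ]
    exact mul_dvd_mul (Nat.ordProj_dvd _ _) ((hs.dvd_factorial).2 (not_lt.1 fun e => h s hs e h8 h7))
  have h10 : ((s ^ (ν + 1) : ℕ) : ℤ) ∣ g.eval (t : ℤ) - g.eval 1 :=
    (dvd_sub_comm.1 (by exact_mod_cast (hn.of_dvd h9).dvd)).trans (sub_dvd_eval_sub (t : ℤ) 1 g)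
  have h11 := dvd_sub (Int.natCast_dvd.2 h6) h10
  rw [sub_sub_cancel, Int.natCast_dvd] at h11
  exact Nat.pow_succ_factorization_not_dvd h2 hs h11

theorem exists_int {ι K A : Type} [Field K] [CharZero K] [AddCommGroup A] (s : Finset ι) (L : ι → A →+ K)
    (h : ∀ a ∈ s, ∃ z, L a z ≠ 0) : ∃ z, ∀ a ∈ s, L a z ≠ 0 := by
  by_contra h0
  push Not at h0
  obtain ⟨a, ha, h1⟩ := AddSubgroup.exists_finiteIndex_of_leftCoset_cover (H := fun a => (L a).ker) (g := fun _ => 0) (s := s)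
    (Set.eq_univ_of_forall fun z => by
      obtain ⟨a, ha, e⟩ := h0 z
      exact Set.mem_iUnion₂.2 ⟨a, ha, z, e, zero_add z⟩)
  obtain ⟨z, hz⟩ := h a ha
  have h2 : L a ((L a).ker.index • z) = 0 := AddSubgroup.nsmul_index_mem (L a).ker z
  rw [map_nsmul, nsmul_eq_mul] at h2
  exact mul_ne_zero (Nat.cast_ne_zero.2 h1.index_ne_zero) hz h2

/-- the roots modulo large primes -/
theorem exists_root {K : Type} [Field K] [CharZero K] {μ : K} {d p e : ℕ} (hd : 0 < d) (hp : p.Prime) (he : 0 < e)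
    (hμ : μ ^ d * (p : K) ^ e = 1) (B : ℕ) : ∃ n t₀ : ℕ, n.Coprime p ∧ ∀ t : ℕ, p ∣ t → t ≡ 1 [MOD n] → t₀ < t →
      ∃ r : ℕ, r.Prime ∧ B < r ∧ r ≠ p ∧ ∀ h : ℤ[X], aeval μ h = 0 → (r : ℤ) ∣ h.eval (t : ℤ) := by
  have h0 : μ ≠ 0 := fun e => by simp [e, hd.ne'] at hμ
  have h1 : aeval μ⁻¹ (X ^ d - C ((p : ℤ) ^ e)) = 0 := by
    rw [map_sub, map_pow, aeval_X, aeval_C, algebraMap_int_eq, eq_intCast, Int.cast_pow, Int.cast_natCast, inv_pow]
    exact sub_eq_zero.2 (eq_inv_of_mul_eq_one_right hμ).symm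
  have h2 : IsIntegral ℤ μ⁻¹ := ⟨_, monic_X_pow_sub_C _ hd.ne', h1⟩
  have h3 := minpoly.isIntegrallyClosed_dvd h2 h1
  have h4 : (1 : ℤ) < (p : ℤ) ^ e := one_lt_pow₀ (by exact_mod_cast hp.one_lt) he.ne'
  have h5 : (minpoly ℤ μ⁻¹).coeff 0 ≠ 0 := fun e => by
    have := eval_dvd (x := 0) h3
    rw [← coeff_zero_eq_eval_zero, e, zero_dvd_iff] at this
    simp only [eval_sub, eval_pow, eval_X, eval_C, zero_pow hd.ne'] at this
    omega
  obtain ⟨n, t₀, h6, h7⟩ := exists_big (g := (minpoly ℤ μ⁻¹).reverse)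
    (by
      rw [reverse_natDegree, natTrailingDegree_eq_zero.2 (Or.inr h5)]
      exact minpoly.natDegree_pos h2)
    (by rw [coeff_zero_reverse, (minpoly.monic h2).leadingCoeff])
    (fun e => by
      have := invertibleOne (α := ℤ)
      have h6 := (eval₂_reverse_eq_zero_iff (RingHom.id ℤ) 1 (minpoly ℤ μ⁻¹)).1 (by rwa [invOf_one', eval₂_id])
      have h7 := eval_dvd (x := 1) h3
      rw [eval₂_id] at h6
      rw [h6, zero_dvd_iff] at h7
      simp only [eval_sub, eval_pow, eval_X, eval_C, one_pow] at h7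
      omega) hp B
  refine ⟨n, t₀, h6, fun t a b c => ?_⟩
  obtain ⟨r, hr, h8, h9, h10⟩ := h7 t a b c
  refine ⟨r, hr, h8, h9, fun h hh => ?_⟩
  have := Fact.mk hr
  have key : ∀ h : ℤ[X], (r : ℤ) ∣ h.eval (t : ℤ) ↔ eval₂ (Int.castRingHom (ZMod r)) (t : ZMod r) h = 0 := fun h => by
    rw [← ZMod.intCast_zmod_eq_zero_iff_dvd, ← eq_intCast (Int.castRingHom (ZMod r)), ← eval₂_hom]
    simp
  rw [key] at h10 ⊢
  have h11 : (t : ZMod r) ≠ 0 := fun e => by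
    rw [e, eval₂_at_zero, coeff_zero_reverse, (minpoly.monic h2).leadingCoeff, map_one] at h10
    exact one_ne_zero h10
  have := invertibleOfNonzero h11
  have := invertibleOfNonzero (inv_ne_zero h11)
  have := invertibleOfNonzero h0
  rw [← eval₂_reverse_eq_zero_iff, invOf_eq_inv]
  obtain ⟨u, hu⟩ := minpoly.isIntegrallyClosed_dvd h2 (p := h.reverse) (by
    rw [aeval_def, ← invOf_eq_inv, eval₂_reverse_eq_zero_iff]
    exact hh)
  rw [hu, eval₂_mul, (eval₂_reverse_eq_zero_iff _ (t : ZMod r)⁻¹ _).1 (by rwa [invOf_eq_inv, inv_inv]), zero_mul]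

variable {R : Type} [Fintype R] [DecidableEq R]

theorem eig_pow {A : Matrix R R ℤ} {K : Type} [Field K] {μ : K} {y : R → K}
    (hy : μ • A.map (Int.cast : ℤ → K) *ᵥ y = y) (i : ℕ) : μ ^ i • (A ^ i).map (Int.cast : ℤ → K) *ᵥ y = y := by
  induction i with
  | zero => simp
  | succ i ih =>
    rw [pow_succ, pow_succ, show (A ^ i * A).map (Int.cast : ℤ → K) = (A ^ i).map Int.cast * A.map Int.cast from
      Matrix.map_mul (f := Int.castRingHom K), ← mulVec_mulVec, mul_smul, ← mulVec_smul, hy, ih]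

theorem eig_eq {A : Matrix R R ℤ} {d : ℕ} {n : ℤ} (hA : A ^ d = n • 1) {K : Type} [Field K] {μ : K} {y : R → K}
    (hy : μ • A.map (Int.cast : ℤ → K) *ᵥ y = y) (h0 : y ≠ 0) : μ ^ d * n = 1 := by
  have h3 := eig_pow hy d
  rw [hA, show (n • (1 : Matrix R R ℤ)).map (Int.cast : ℤ → K) = (n : K) • 1 by
    ext i j
    rw [map_apply, Matrix.smul_apply, Matrix.smul_apply, Matrix.one_apply, Matrix.one_apply]
    split_ifs <;> simp, smul_mulVec, one_mulVec, smul_smul, ← sub_eq_zero] at h3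
  nth_rw 2 [← one_smul K y] at h3
  rw [← sub_smul, smul_eq_zero, sub_eq_zero] at h3
  exact h3.resolve_right h0

/-- **A regular eigenvector modulo large primes**, together with a polynomial which does not vanish at the eigenvalue. -/
theorem exists_mod' {A : Matrix R R ℤ} {d p e : ℕ} (hd : 0 < d) (hp : p.Prime) (he : 0 < e) (hA : A ^ d = ((p : ℤ) ^ e) • 1)
    (s : Finset (R → ℤ)) {K : Type} [Field K] [CharZero K] {μ : K} {y : R → K}
    (hy : μ • A.map (Int.cast : ℤ → K) *ᵥ y = y) (h0 : y ≠ 0) (hs : ∀ a ∈ s, (fun i => (a i : K)) ⬝ᵥ y ≠ 0) {g : ℤ[X]}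
    (hg : aeval μ g ≠ 0) (B : ℕ) :
    ∃ n t₀ : ℕ, n.Coprime p ∧ ∀ t : ℕ, p ∣ t → t ≡ 1 [MOD n] → t₀ < t → ∃ r : ℕ, r.Prime ∧ B < r ∧ r ≠ p ∧
      ¬ (r : ℤ) ∣ g.eval (t : ℤ) ∧
      ∃ z : R → ℤ, (∀ i, (r : ℤ) ∣ (((t : ℤ) • A - 1) *ᵥ z) i) ∧ ∀ a ∈ s, ¬ (r : ℤ) ∣ a ⬝ᵥ z := by
  classical
  have h1 := eig_pow hy
  have h2 : μ ^ d * (p : K) ^ e = 1 := by exact_mod_cast eig_eq hA hy h0
  let h : (R → ℤ) → (R → ℤ) → ℤ[X] := fun a z => ∑ i ∈ Finset.range d, C (a ⬝ᵥ (A ^ i *ᵥ z)) * X ^ i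
  obtain ⟨z, hz⟩ := exists_int s (fun a => AddMonoidHom.mk' (fun z => aeval μ (h a z)) fun z z' => by
    simp only [h, mulVec_add, dotProduct_add, map_add, add_mul, Finset.sum_add_distrib]) fun a ha => by
      by_contra h0
      push Not at h0
      refine mul_ne_zero (Nat.cast_ne_zero.2 hd.ne') (hs a ha) ?_
      have h3 : ∑ j, y j * aeval μ (h a (Pi.single j 1)) =
          ∑ i ∈ Finset.range d, (fun i => (a i : K)) ⬝ᵥ (μ ^ i • (A ^ i).map (Int.cast : ℤ → K) *ᵥ y) := by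
        simp only [h, map_sum, map_mul, aeval_C, map_pow, aeval_X, Finset.mul_sum, mulVec_single_one]
        rw [Finset.sum_comm]
        refine Finset.sum_congr rfl fun i _ => ?_
        simp only [dotProduct, mulVec, algebraMap_int_eq, eq_intCast, Int.cast_sum, Int.cast_mul, Pi.smul_apply,
          smul_eq_mul, map_apply, Finset.mul_sum, Finset.sum_mul, col_apply]
        rw [Finset.sum_comm]
        exact Finset.sum_congr rfl fun _ _ => Finset.sum_congr rfl fun _ _ => by ring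
      rw [Finset.sum_congr rfl fun i _ => congrArg _ (h1 i), Finset.sum_const, Finset.card_range, nsmul_eq_mul] at h3
      rw [← h3]
      exact Finset.sum_eq_zero fun j _ => mul_eq_zero_of_right _ (h0 _)
  have h3 : IsAlgebraic ℤ μ := ⟨X ^ d * C ((p : ℤ) ^ e) - 1, fun e => by
    have := congrArg (eval 0) e
    simp [hd.ne'] at this, by simp [h2]⟩
  have h4 : ∀ u : ℤ[X], aeval μ u ≠ 0 → ∃ q : ℤ[X], q.coeff 0 ≠ 0 ∧ aeval (aeval μ u) q = 0 := fun u hu =>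
    IsAlgebraic.exists_nonzero_coeff_and_aeval_eq_zero
      ((Algebra.adjoin_le (S := Subalgebra.algebraicClosure ℤ K) (Set.singleton_subset_iff.2 h3))
        (aeval_mem_adjoin_singleton ℤ μ)) (mem_nonZeroDivisors_of_ne_zero hu)
  choose! q hq hq' using h4
  obtain ⟨n, t₀, h5, h6⟩ := exists_root hd hp he h2 (B + ((q g).coeff 0).natAbs + ∑ a ∈ s, ((q (h a z)).coeff 0).natAbs)
  refine ⟨n, t₀, h5, fun t a b c => ?_⟩
  obtain ⟨r, hr, h7, h8, h9⟩ := h6 t a b c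
  have key : ∀ u : ℤ[X], aeval μ u ≠ 0 → (r : ℤ) ∣ u.eval (t : ℤ) → r ≤ ((q u).coeff 0).natAbs := fun u hu h10 => by
    have h11 := h9 ((q u).comp u) (by rw [aeval_comp, hq' u hu])
    have h16 := sub_dvd_eval_sub (u.eval (t : ℤ)) 0 (q u)
    rw [sub_zero] at h16
    rw [eval_comp] at h11
    have h13 := dvd_sub h11 (h10.trans h16)
    rw [sub_sub_cancel, ← coeff_zero_eq_eval_zero, Int.natCast_dvd] at h13
    exact Nat.le_of_dvd (Int.natAbs_pos.2 (hq u hu)) h13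
  refine ⟨r, hr, by omega, h8, fun h10 => absurd (key g hg h10) (by omega), (∑ i ∈ Finset.range d, ((t : ℤ) • A) ^ i) *ᵥ z,
    fun i => ?_, fun a ha h10 => ?_⟩
  · rw [mulVec_mulVec, mul_geom_sum, _root_.smul_pow, hA, smul_smul, sub_mulVec, smul_mulVec, one_mulVec, Pi.sub_apply,
      Pi.smul_apply, smul_eq_mul, ← sub_one_mul]
    have h10 := h9 (X ^ d * C ((p : ℤ) ^ e) - 1) (by simp [h2])
    rw [eval_sub, eval_mul, eval_pow, eval_X, eval_C, eval_one] at h10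
    exact h10.mul_right _
  · have h12 : (h a z).eval (t : ℤ) = a ⬝ᵥ (∑ i ∈ Finset.range d, ((t : ℤ) • A) ^ i) *ᵥ z := by
      simp only [h, eval_finsetSum, eval_mul, eval_C, eval_pow, eval_X, sum_mulVec, dotProduct_sum, _root_.smul_pow, smul_mulVec,
        dotProduct_smul, smul_eq_mul, mul_comm]
    have h14 := key _ (hz a ha) (h12 ▸ h10)
    have h15 := Finset.single_le_sum (f := fun a => ((q (h a z)).coeff 0).natAbs) (fun _ _ => Nat.zero_le _) ha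
    omega

/-- **A regular eigenvector modulo large primes.** -/
theorem exists_mod {A : Matrix R R ℤ} {d p e : ℕ} (hd : 0 < d) (hp : p.Prime) (he : 0 < e) (hA : A ^ d = ((p : ℤ) ^ e) • 1)
    (s : Finset (R → ℤ)) {K : Type} [Field K] [CharZero K] {μ : K} {y : R → K}
    (hy : μ • A.map (Int.cast : ℤ → K) *ᵥ y = y) (hs : ∀ a ∈ s, (fun i => (a i : K)) ⬝ᵥ y ≠ 0) (B : ℕ) :
    ∃ n t₀ : ℕ, n.Coprime p ∧ ∀ t : ℕ, p ∣ t → t ≡ 1 [MOD n] → t₀ < t → ∃ r : ℕ, r.Prime ∧ B < r ∧ r ≠ p ∧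
      ∃ z : R → ℤ, (∀ i, (r : ℤ) ∣ (((t : ℤ) • A - 1) *ᵥ z) i) ∧ ∀ a ∈ s, ¬ (r : ℤ) ∣ a ⬝ᵥ z := by
  rcases s.eq_empty_or_nonempty with rfl | ⟨a₀, ha₀⟩
  · refine ⟨1, 0, Nat.coprime_one_left p, fun t _ _ _ => ?_⟩
    obtain ⟨r, h1, h2⟩ := Nat.exists_infinite_primes (B + p + 1)
    exact ⟨r, h2, by omega, by omega, 0, by simp, by simp⟩
  obtain ⟨n, t₀, h1, h2⟩ := exists_mod' hd hp he hA s hy (fun e => hs a₀ ha₀ (by rw [e, dotProduct_zero])) hs (g := 1)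
    (by simp) B
  refine ⟨n, t₀, h1, fun t a b c => ?_⟩
  obtain ⟨r, h3, h4, h5, -, h6⟩ := h2 t a b c
  exact ⟨r, h3, h4, h5, h6⟩

end Cfsg.Agent.LV.One
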