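import Cfsg.Agent.LV.One.Main
import Cfsg.Agent.LV.One.Prime

/-!
# LV, one label at a regular torus, for every `q` (helper63)

* `RegE D w` : `w F` has a regular eigenvector; `regE_of_mod` : a criterion modulo one prime;
* `Lf f χ` : the multiplicities of `χ` occur for infinitely many powers of `F`;
* `one_of_lf` : the labels met by `χ` at a regular `w` form one orbit of `CW D w`.
-/

set_option autoImplicit false
set_option linter.unusedSectionVars false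

namespace Cfsg.Agent.LV.One

open Cfsg Cfsg.Agent.DL Cfsg.Agent.DL.PP Cfsg.Agent.DL.Uni Cfsg.Agent.DL.Asm Cfsg.Agent.Nodes.Reps Matrix
  Cfsg.Agent.Characters.Core Cfsg.Agent.KZ.Lie

open Polynomial in
/-- a root modulo a prime lifts to a complex root -/
theorem exists_lift_root {S : Type} [CommRing S] [IsDomain S] (φ : ℤ[X] →+* S) {g : ℤ[X]} (hg : g.Monic) (h : φ g = 0) :
    ∃ μ : ℂ, aeval μ g = 0 ∧ ∀ u : ℤ[X], aeval μ u = 0 → φ u = 0 := by
  induction hn : g.natDegree using Nat.strong_induction_on generalizing g with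
  | _ n ih =>
    have h1 : g.degree ≠ 0 := fun e => by
      rw [hg.degree_le_zero_iff_eq_one.1 e.le, map_one] at h
      exact one_ne_zero h
    obtain ⟨μ, hμ⟩ := IsAlgClosed.exists_aeval_eq_zero ℂ g h1
    have h2 : IsIntegral ℤ μ := ⟨g, hg, hμ⟩
    obtain ⟨u, hu⟩ := minpoly.isIntegrallyClosed_dvd h2 hμ
    have h3 := (minpoly.monic h2).of_mul_monic_left (hu ▸ hg)
    rw [hu, map_mul, mul_eq_zero] at h
    rcases h with h | h
    · refine ⟨μ, hμ, fun v hv => ?_⟩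
      obtain ⟨v', rfl⟩ := minpoly.isIntegrallyClosed_dvd h2 hv
      rw [map_mul, h, zero_mul]
    · obtain ⟨ν, h4, h5⟩ := ih _ (by
        have := minpoly.natDegree_pos h2
        rw [← hn, hu, (minpoly.monic h2).natDegree_mul h3]
        omega) h3 h rfl
      exact ⟨ν, by rw [hu, map_mul, h4, mul_zero], h5⟩

variable {p : ℕ} [Fact p.Prime] {k : Type} [Field k] [CharP k p] {Y : Type} [Group Y] {N : Type} [Fintype N]
  [DecidableEq N] {ρ : Y →* GL N k} {F : MulAut Y} {G : Subgroup Y} [IsAlgClosed k] {D : Datum p ρ F G}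
  {w : D.W} {c c' : Lbl D}

variable (D w) in
/-- `w F` has a regular eigenvector -/
def RegE : Prop := ∃ (μ : ℂ) (y : D.R → ℂ), μ • (D.Wm w * D.Mx).map (Int.cast : ℤ → ℂ) *ᵥ y = y ∧
  ∀ a, D.Rt a → (fun i => (D.wt a i : ℂ)) ⬝ᵥ y ≠ 0

open Polynomial in
/-- a regular eigenvector modulo one prime suffices -/
theorem regE_of_mod {B : Matrix D.R D.R ℤ} {q e μ : ℤ} {m r : ℕ} (hA : D.Wm w * D.Mx = q • B) (hq : q ≠ 0)
    (hB : B ^ m = e • 1) (hr : r.Prime) (hm : ¬ r ∣ m) (hμ : ¬ (r : ℤ) ∣ μ) {z : D.R → ℤ}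
    (h1 : ∀ i, (r : ℤ) ∣ (B *ᵥ z - μ • z) i) (h2 : ∀ a, D.Rt a → ¬ (r : ℤ) ∣ D.wt a ⬝ᵥ z) : RegE D w := by
  by_cases h0 : ∃ a, D.Rt a
  swap
  · exact ⟨0, 0, by simp, fun a ha => absurd ⟨a, ha⟩ h0⟩
  obtain ⟨a₀, ha₀⟩ := h0
  have := Fact.mk hr
  have hm0 : m ≠ 0 := fun e => hm (e ▸ dvd_zero r)
  have h3 : ∀ (a : D.R → ℤ) (j : ℕ), ((a ⬝ᵥ B ^ j *ᵥ z : ℤ) : ZMod r) = (μ : ZMod r) ^ j * (a ⬝ᵥ z : ℤ) := fun a j => by
    induction j generalizing a with
    | zero => simp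
    | succ j ih =>
      have h4 : (r : ℤ) ∣ (a ᵥ* B ^ j) ⬝ᵥ (B *ᵥ z - μ • z) := Finset.dvd_sum fun i _ => (h1 i).mul_left _
      rw [← ZMod.intCast_zmod_eq_zero_iff_dvd, dotProduct_sub, dotProduct_smul, smul_eq_mul, Int.cast_sub, sub_eq_zero,
        ← dotProduct_mulVec, ← dotProduct_mulVec, mulVec_mulVec, ← pow_succ, Int.cast_mul, ih] at h4
      rw [h4]
      ring
  have h5 : (μ : ZMod r) ≠ 0 := fun e => hμ ((ZMod.intCast_zmod_eq_zero_iff_dvd _ _).1 e)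
  have h6 : ∀ a, D.Rt a → ((D.wt a ⬝ᵥ z : ℤ) : ZMod r) ≠ 0 := fun a ha e =>
    h2 a ha ((ZMod.intCast_zmod_eq_zero_iff_dvd _ _).1 e)
  have h7 : (μ : ZMod r) ^ m = e := by
    have h8 := h3 (D.wt a₀) m
    rw [hB, smul_mulVec, one_mulVec, dotProduct_smul, smul_eq_mul, Int.cast_mul] at h8
    exact (mul_right_cancel₀ (h6 a₀ ha₀) h8).symm
  obtain ⟨ν, h8, h9⟩ := exists_lift_root (eval₂RingHom (Int.castRingHom (ZMod r)) (μ : ZMod r))
    (monic_X_pow_sub_C e hm0) (by simp [h7])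
  have h10 : ν ^ m = e := by simpa [sub_eq_zero] using h8
  have h11 : ν ≠ 0 := fun e => h5 (by simpa using h9 X (by simp [e]))
  have h12 : ∀ j, (B ^ j).map (Int.cast : ℤ → ℂ) = B.map (Int.cast : ℤ → ℂ) ^ j := fun j =>
    map_pow (Int.castRingHom ℂ).mapMatrix B j
  refine ⟨((q : ℂ) * ν)⁻¹, (∑ i ∈ Finset.range m, (ν⁻¹ • B.map (Int.cast : ℤ → ℂ)) ^ i) *ᵥ fun i => (z i : ℂ), ?_,
    fun a ha h13 => ?_⟩
  · have h14 : ((q : ℂ) * ν)⁻¹ • (D.Wm w * D.Mx).map (Int.cast : ℤ → ℂ) = ν⁻¹ • B.map (Int.cast : ℤ → ℂ) := by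
      have : (q : ℂ) ≠ 0 := Int.cast_ne_zero.2 hq
      ext i j
      simp only [hA, Matrix.smul_apply, map_apply, smul_eq_mul, Int.cast_mul]
      field_simp
    have h15 : (ν⁻¹ • B.map (Int.cast : ℤ → ℂ)) ^ m = 1 := by
      rw [_root_.smul_pow, ← h12, hB, inv_pow, h10]
      have : (e : ℂ) ≠ 0 := h10 ▸ pow_ne_zero _ h11
      ext i j
      simp only [Matrix.smul_apply, map_apply, smul_eq_mul, Matrix.one_apply]
      split_ifs <;> simp [this]
    rw [← smul_mulVec, h14, mulVec_mulVec, ← sub_eq_zero, ← sub_mulVec, ← sub_one_mul, mul_geom_sum, h15, sub_self,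
      zero_mulVec]
  · have h14 := h9 (∑ i ∈ Finset.range m, C (D.wt a ⬝ᵥ B ^ i *ᵥ z) * X ^ (m - i)) (by
      rw [← mul_eq_zero_of_right (ν ^ m) h13, map_sum, sum_mulVec, dotProduct_sum, Finset.mul_sum]
      refine Finset.sum_congr rfl fun i hi => ?_
      rw [_root_.smul_pow, ← h12, smul_mulVec, dotProduct_smul, smul_eq_mul, map_mul, map_pow, aeval_X, aeval_C,
        pow_sub₀ _ h11 (Finset.mem_range.1 hi).le, inv_pow,
        show ((fun i => (D.wt a i : ℂ)) ⬝ᵥ (B ^ i).map Int.cast *ᵥ fun i => (z i : ℂ)) = algebraMap ℤ ℂ (D.wt a ⬝ᵥ B ^ i *ᵥ z) by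
          simp only [dotProduct, mulVec, algebraMap_int_eq, eq_intCast, Int.cast_sum, Int.cast_mul, map_apply]]
      ring)
    rw [map_sum, Finset.sum_congr rfl (g := fun _ => (μ : ZMod r) ^ m * (D.wt a ⬝ᵥ z : ℤ)) fun i hi => by
      rw [map_mul, map_pow, coe_eval₂RingHom, eval₂_C, eval₂_X, eq_intCast, h3, mul_right_comm, ← pow_add,
        Nat.add_sub_cancel' (Finset.mem_range.1 hi).le], Finset.sum_const, Finset.card_range, nsmul_eq_mul] at h14
    exact mul_ne_zero (fun e => hm ((ZMod.natCast_eq_zero_iff _ _).1 e)) (mul_ne_zero (pow_ne_zero _ h5) (h6 a ha)) h14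

theorem orderOf_dvd_ordT (h : Fx D w c) : orderOf c ∣ ordT D w := by
  let K : Subgroup (Lbl D) :=
    { carrier := {c | Fx D w c}
      one_mem' := fun v => by simp
      mul_mem' := fun {a b} ha hb v => by rw [map_mul, map_mul, ha v, hb v]
      inv_mem' := fun {a} ha v => by rw [map_inv, map_inv, ha v] }
  rw [← Subgroup.orderOf_mk (H := K) c h, ordT, ← card_Fx]
  exact orderOf_dvd_natCard _

theorem pow_Mx {d e : ℕ} (L : Lvl D d e) (j : ℕ) : D.Mx ^ (1 + d * j) = ((p : ℤ) ^ (e * j)) • D.Mx := by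
  have := L.pow 1
  rw [D.Wm_one, one_mul] at this
  rw [pow_add, pow_one, pow_mul, this, _root_.smul_pow, one_pow, mul_smul_comm, mul_one, pow_mul]

theorem pow_Fw {d e : ℕ} (L : Lvl D d e) {l j : ℕ} (hl : 0 < l) (h : l = 1 + d * j) (v : D.W) : (D.pow hl).Fw v = D.Fw v := by
  have h1 : D.Mx ^ l * D.Wm v = D.Wm ((D.pow hl).Fw v) * D.Mx ^ l := (D.pow hl).Mx_Wm v
  have h2 : D.Mx ^ l = ((p : ℤ) ^ (e * j)) • D.Mx := h ▸ pow_Mx L j
  have h0 : (p : ℤ) ≠ 0 := Nat.cast_ne_zero.2 (Fact.out : p.Prime).ne_zero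
  rw [h2, smul_mul_assoc, mul_smul_comm, D.Mx_Wm] at h1
  have h3 := congrArg (· * D.Mx ^ (d - 1)) (smul_right_injective _ (pow_ne_zero _ h0) h1)
  have h4 := L.pow 1
  rw [D.Wm_one, one_mul] at h4
  simp only [mul_assoc, ← pow_succ', Nat.sub_add_cancel L.d_pos, h4, mul_smul_comm, mul_one] at h3
  exact (D.Wm_injective (smul_right_injective _ (pow_ne_zero _ h0) h3)).symm

variable (f : Fr D) [Fintype ↥(GF F G)] {χ : GF F G → ℂ}

variable (χ) in
/-- the support of the multiplicities of `χ` occurs for infinitely many powers of `F` -/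
def Lf : Prop := ∀ B M : ℕ, M ≠ 0 → ∃ (l : ℕ) (hl : 0 < l) (_ : Fintype ↥(GF (F ^ l) G)) (f' : Fr (D.pow hl))
  (χ' : GF (F ^ l) G → ℂ), B < l ∧ l ≡ 1 [MOD M] ∧ IsIrrCharacter (GF (F ^ l) G) χ' ∧
    ∀ w c, classInner χ' (RW f' w c) ≠ 0 ↔ classInner χ (RW f w c) ≠ 0

/-- **One label at a regular torus.** -/
theorem one_of_lf (hL : Lf f χ) (hR : RegE D w) (h : classInner χ (RW f w c) ≠ 0) (h' : classInner χ (RW f w c') ≠ 0) :
    ∃ v ∈ CW D w, Rel D v c c' := by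
  classical
  have hp : p.Prime := Fact.out
  obtain ⟨μ, y, hy, hs⟩ := hR
  obtain ⟨n, t₀, h1, h2⟩ := exists_mod f.L.d_pos hp f.L.e_pos (f.L.pow w) ((Phi D).image D.wt) hy (fun a ha => by
    obtain ⟨b, hb, rfl⟩ := Finset.mem_image.1 ha
    exact hs b ((mem_Phi D).1 hb)) (ordT D w + Nat.card D.W)
  have hn : 0 < n := Nat.pos_of_ne_zero fun e => hp.ne_one (by simpa [e] using h1)
  have hd := f.L.d_pos
  have he := f.L.e_pos
  obtain ⟨l, hl, _, f', χ', h3, h4, h5, h6⟩ := hL (f.d * t₀ + 1) (f.d * n.totient)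
    (mul_pos hd (Nat.totient_pos.2 hn)).ne'
  obtain ⟨j, hj⟩ := (Nat.modEq_iff_dvd' hl).1 h4.symm
  have h7 : l = 1 + f.d * (n.totient * j) := by rw [← mul_assoc]; omega
  have h8 : t₀ < n.totient * j := lt_of_mul_lt_mul_left (a := f.d) (by omega) (Nat.zero_le _)
  obtain ⟨r, hr, h9, h10, z, h11, h12⟩ := h2 (p ^ (f.e * (n.totient * j)))
    (dvd_pow_self p (mul_pos he (by omega)).ne')
    (by
      rw [mul_left_comm, pow_mul]
      simpa using (Nat.ModEq.pow_totient h1.symm).pow (f.e * j))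
    (h8.trans_le ((Nat.le_mul_of_pos_left _ he).trans (Nat.lt_pow_self hp.one_lt).le))
  have h13 : D.Mx ^ l = ((p : ℤ) ^ (f.e * (n.totient * j))) • D.Mx := h7 ▸ pow_Mx f.L _
  obtain ⟨v, h14, h15⟩ := one_of_reg (D := D.pow hl) (w := w) f' hr h10
    (fun e => absurd (Nat.le_of_dvd Nat.card_pos e) (by show ¬ r ≤ Nat.card D.W; omega))
    ⟨z, fun i => by
      show (r : ℤ) ∣ ((D.Wm w * D.Mx ^ l - 1) *ᵥ z) i
      rw [h13, mul_smul_comm]
      exact_mod_cast h11 i, fun a ha => h12 _ (Finset.mem_image_of_mem _ ((mem_Phi D).2 ha))⟩ h5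
    (fun a ha e => absurd (Nat.le_of_dvd (Int.natAbs_pos.2 (det_ne_zero D w))
      (e.trans (orderOf_dvd_ordT (fx_of_ne f ((h6 w a).1 ha))))) (by show ¬ r ≤ ordT D w; omega))
    ((h6 w c).2 h) ((h6 w c').2 h')
  exact ⟨v, (congrArg (w * ·) (pow_Fw f.L hl h7 v)).symm.trans h14, h15⟩

/-- if `χ` meets the label `1` at a regular `w`, it meets no other label there -/
theorem uni_of_lf (hL : Lf f χ) (hR : RegE D w) (h : classInner χ (RW f w 1) ≠ 0) (hc : c ≠ 1) :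
    classInner χ (RW f w c) = 0 := by
  by_contra h'
  obtain ⟨v, -, hv⟩ := one_of_lf f hL hR h' h
  exact hc (eq_of_chr D fun u => by rw [← hv u, map_one, map_one])

theorem sum_of_lf (hL : Lf f χ) (hR : RegE D w) (h : classInner χ (RW f w 1) ≠ 0) :
    ∑ᶠ c, classInner χ (RW f w c) = classInner χ (RW f w 1) :=
  finsum_eq_single _ _ fun _ hc => uni_of_lf f hL hR h hc

end Cfsg.Agent.LV.One
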