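import Mathlib

/-!
# LV, polynomials (helper63)

* `dvd_of_values`, `dvd_of_pow_values` : divisibility of polynomials from the divisibility of their values;
* `det_pos` : the sign of `det (t • A - 1)`;
* `exists_quot` : an integral quotient by the content argument.
-/

set_option autoImplicit false

namespace Cfsg.Agent.LV.One

open Polynomial Matrix Filter

theorem dvd_of_values {f g : ℚ[X]} (hf : f ≠ 0) (h : ∀ B : ℕ, ∃ t : ℕ, B < t ∧ ∃ n : ℤ, g.eval (t : ℚ) = n * f.eval (t : ℚ)) :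
    f ∣ g := by
  obtain ⟨b, hb, h1⟩ := IsLocalization.integerNormalization_spec (nonZeroDivisors ℤ) (g / f)
  have hb' : (b : ℚ) ≠ 0 := Int.cast_ne_zero.2 (nonZeroDivisors.ne_zero hb)
  rw [← EuclideanDomain.mod_eq_zero]
  by_contra h0
  have h2 := (div_tendsto_atTop_zero_of_degree_lt _ _ (degree_mod_lt g hf)).const_mul (b : ℚ)
  rw [mul_zero] at h2
  have h3 := (h2.eventually (Ioo_mem_nhds (show (-1 : ℚ) < 0 by norm_num) one_pos)).and
    ((eventually_atTop_not_isRoot _ hf).and (eventually_atTop_not_isRoot _ h0))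
  obtain ⟨B, hB⟩ := eventually_atTop.1 (tendsto_natCast_atTop_atTop.eventually h3)
  obtain ⟨t, ht, n, hn⟩ := h B
  obtain ⟨h4, h5, h6⟩ := hB t ht.le
  have h7 := congrArg (eval (t : ℚ)) (EuclideanDomain.div_add_mod g f)
  have h8 := congrArg (eval (t : ℚ)) h1
  rw [eval_add, eval_mul, hn] at h7
  rw [eval_map, ← Int.cast_natCast, ← eq_intCast (algebraMap ℤ ℚ), eval₂_hom, eval_smul, zsmul_eq_mul, eq_intCast, eq_intCast,
    Int.cast_natCast] at h8
  have h9 : (b : ℚ) * ((g % f).eval (t : ℚ) / f.eval (t : ℚ)) =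
      ((b * n - (IsLocalization.integerNormalization (nonZeroDivisors ℤ) (g / f)).eval (t : ℤ) : ℤ) : ℚ) := by
    have h10 : f.eval (t : ℚ) ≠ 0 := h5
    rw [Int.cast_sub, Int.cast_mul, h8]
    field_simp
    linear_combination h7
  rw [h9] at h4
  have h10 : b * n - (IsLocalization.integerNormalization (nonZeroDivisors ℤ) (g / f)).eval (t : ℤ) = 0 := by
    have := h4.1
    have := h4.2
    norm_cast at *
    omega
  rw [h10, Int.cast_zero, mul_eq_zero, div_eq_zero_iff] at h9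
  rcases h9 with h9 | h9 | h9
  exacts [hb' h9, h6 h9, h5 h9]

theorem eval_map_cast (f : ℤ[X]) (t : ℤ) : (f.map (Int.castRingHom ℚ)).eval (t : ℚ) = (f.eval t : ℤ) := by
  rw [eval_map, ← eq_intCast (Int.castRingHom ℚ), eval₂_hom, eq_intCast]

theorem dvd_of_pow_values {f g : ℤ[X]} {p : ℕ} (hp : p.Prime) (hf : f.coeff 0 ≠ 0)
    (h : ∀ B : ℕ, ∃ j ν : ℕ, B < j ∧ f.eval ((p : ℤ) ^ j) ∣ (p : ℤ) ^ ν * g.eval ((p : ℤ) ^ j)) :
    f.map (Int.castRingHom ℚ) ∣ g.map (Int.castRingHom ℚ) := by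
  have h0 : f.map (Int.castRingHom ℚ) ≠ 0 := (Polynomial.map_ne_zero_iff (RingHom.injective_int _)).2 fun e => hf (by simp [e])
  have hp' := Nat.prime_iff_prime_int.1 hp
  obtain ⟨v, c, hc, h1⟩ := WfDvdMonoid.max_power_factor hf hp'.irreducible
  refine (isUnit_C.2 (IsUnit.mk0 ((p : ℚ) ^ v) (pow_ne_zero _ (Nat.cast_ne_zero.2 hp.ne_zero)))).dvd_mul_left.1
    (dvd_of_values h0 fun B => ?_)
  obtain ⟨j, ν, hj, h2⟩ := h (B + v)
  obtain ⟨u, hu⟩ := (pow_dvd_pow (p : ℤ) (show v + 1 ≤ j by omega)).trans (by simpa using sub_dvd_eval_sub ((p : ℤ) ^ j) 0 f)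
  rw [← coeff_zero_eq_eval_zero, h1, sub_eq_iff_eq_add, pow_succ, mul_assoc, ← mul_add] at hu
  have h3 : IsCoprime ((p : ℤ) * u + c) ((p : ℤ) ^ ν) :=
    ((hp'.irreducible.coprime_iff_not_dvd.2 fun e => hc ((dvd_add_right (dvd_mul_right _ _)).1 e)).symm).pow_right
  obtain ⟨n, hn⟩ := h3.dvd_of_dvd_mul_left ((Dvd.intro_left _ hu.symm).trans h2)
  refine ⟨p ^ j, by have := Nat.lt_pow_self hp.one_lt (n := j); omega, n, ?_⟩
  rw [eval_mul, eval_C, show ((p ^ j : ℕ) : ℚ) = (((p : ℤ) ^ j : ℤ) : ℚ) by simp, eval_map_cast, eval_map_cast, hn, hu]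
  push_cast
  ring

theorem det_pos {R : Type} [Fintype R] [DecidableEq R] {A : Matrix R R ℤ} {d : ℕ} {n t : ℤ} (hA : A ^ d = n • 1)
    (hn : 1 < n) (ht : 0 < t) : 0 < A.det * (t • A - 1).det := by
  let B : Matrix R R ℝ := A.map (Int.castRingHom ℝ)
  have hB : B ^ d = (n : ℝ) • 1 := by
    rw [show B ^ d = (A ^ d).map (Int.castRingHom ℝ) from (map_pow (Int.castRingHom ℝ).mapMatrix A d).symm, hA]
    ext i j
    rw [map_apply, Matrix.smul_apply, Matrix.smul_apply, Matrix.one_apply, Matrix.one_apply]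
    split_ifs <;> simp
  have h1 : ∀ s ∈ Set.Icc (0 : ℝ) 1, (B - s • 1).det ≠ 0 := fun s hs h0 => by
    have h1 := congrArg Matrix.det (Commute.mul_geom_sum₂ ((Commute.one_right B).smul_right s) d)
    rw [Matrix.det_mul, h0, zero_mul, hB, _root_.smul_pow, one_pow, ← sub_smul, Matrix.det_smul, Matrix.det_one, mul_one] at h1
    have h2 := pow_le_one₀ hs.1 hs.2 (n := d)
    have h3 : (1 : ℝ) < n := by exact_mod_cast hn
    exact pow_ne_zero _ (by linarith) h1.symm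
  have h2 : (0 : ℝ) < t := by exact_mod_cast ht
  have h3 : (1 : ℝ) ≤ t := by exact_mod_cast ht
  have h4 : 0 < B.det * (B - (t : ℝ)⁻¹ • 1).det := by
    by_contra h
    have h5 : B.det ≠ 0 := by simpa using h1 0 ⟨le_rfl, zero_le_one⟩
    obtain ⟨s, hs, h6⟩ := intermediate_value_Icc' (inv_nonneg.2 h2.le) (f := fun s : ℝ => B.det * (B - s • 1).det)
      (continuous_const.mul (continuous_const.sub (continuous_id.smul continuous_const)).matrix_det).continuousOn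
      (show (0 : ℝ) ∈ _ from ⟨not_lt.1 h, by simpa using mul_self_nonneg B.det⟩)
    exact mul_ne_zero h5 (h1 s ⟨hs.1, hs.2.trans (inv_le_one_of_one_le₀ h3)⟩) h6
  have h5 : (((t • A - 1).det : ℤ) : ℝ) = (t : ℝ) ^ Fintype.card R * (B - (t : ℝ)⁻¹ • 1).det := by
    rw [← Matrix.det_smul, smul_sub, smul_smul, mul_inv_cancel₀ h2.ne', one_smul, ← eq_intCast (Int.castRingHom ℝ),
      RingHom.map_det, map_sub, map_zsmul, map_one, Int.cast_smul_eq_zsmul]
    rfl
  have h6 : ((A.det : ℤ) : ℝ) = B.det := (Int.castRingHom ℝ).map_det A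
  have h7 : (0 : ℝ) < ((A.det * (t • A - 1).det : ℤ) : ℝ) := by
    rw [Int.cast_mul, h5, h6, mul_left_comm]
    positivity
  exact_mod_cast h7

theorem isPrimitive_of_coeff {f : ℤ[X]} (h : IsUnit (f.coeff 0)) : f.IsPrimitive := fun r hr =>
  isUnit_of_dvd_unit ((C_dvd_iff_dvd_coeff r f).1 hr 0) h

theorem dvd_of_map_dvd {S P : ℤ[X]} {n : ℤ} (hS : S.IsPrimitive) (hn : n ≠ 0)
    (h : S.map (Int.castRingHom ℚ) ∣ (C n * P).map (Int.castRingHom ℚ)) : S ∣ P := by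
  rw [Polynomial.map_mul, map_C, (isUnit_C.2 (IsUnit.mk0 _ (by simpa using hn))).dvd_mul_left] at h
  exact (IsPrimitive.Int.dvd_iff_map_cast_dvd_map_cast _ _ hS).2 h

theorem exists_quot {S P : ℤ[X]} {n : ℤ} (hn : n ≠ 0) (h0 : S.coeff 0 ∣ n)
    (h : S.map (Int.castRingHom ℚ) ∣ (C n * P).map (Int.castRingHom ℚ)) : ∃ Q, C n * P = S * Q := by
  obtain ⟨Q, hQ⟩ := dvd_of_map_dvd S.isPrimitive_primPart hn ((Polynomial.map_dvd _ S.primPart_dvd).trans h)
  obtain ⟨m, hm⟩ := (S.content_dvd_coeff 0).trans h0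
  refine ⟨C m * Q, ?_⟩
  conv_rhs => rw [S.eq_C_content_mul_primPart]
  rw [hQ, hm, map_mul]
  ring

/-- the normal form of a rational polynomial -/
theorem exists_form {g : ℚ[X]} (hg : g ≠ 0) : ∃ (c : ℚ) (n : ℕ) (u : ℤ[X]), c ≠ 0 ∧ u.IsPrimitive ∧ u.coeff 0 ≠ 0 ∧
    g = C c * (X ^ n * u).map (Int.castRingHom ℚ) := by
  obtain ⟨b, hb, h1⟩ := IsLocalization.integerNormalization_spec (nonZeroDivisors ℤ) g
  set v := IsLocalization.integerNormalization (nonZeroDivisors ℤ) g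
  have hb' : (b : ℚ) ≠ 0 := Int.cast_ne_zero.2 (nonZeroDivisors.ne_zero hb)
  obtain ⟨u, h2, h3⟩ := exists_eq_pow_rootMultiplicity_mul_and_not_dvd v.primPart v.primPart_ne_zero 0
  rw [C_0, sub_zero] at h2 h3
  have h4 : g = C ((v.content : ℚ) / b) * v.primPart.map (Int.castRingHom ℚ) := by
    refine mul_left_cancel₀ (C_ne_zero.2 hb') ?_
    rw [← mul_assoc, ← C_mul, mul_div_cancel₀ _ hb', ← eq_intCast (Int.castRingHom ℚ) v.content, ← map_C, ← Polynomial.map_mul,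
      ← v.eq_C_content_mul_primPart, C_mul', Int.cast_smul_eq_zsmul, ← h1]
    rfl
  exact ⟨v.content / b, _, u, fun e => hg (by rw [h4, e, C_0, zero_mul]),
    isPrimitive_of_dvd v.isPrimitive_primPart (Dvd.intro_left _ h2.symm), fun e => h3 (X_dvd_iff.2 e), h2 ▸ h4⟩

end Cfsg.Agent.LV.One
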