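import Cfsg.Agent.LV.One.Val
import Cfsg.Agent.LV.One.Poly
import Cfsg.Agent.KZ.Lie.ApiB

/-!
# LV, the degree polynomial and the residue theorem (helper63)

* `Pw D w` : the order polynomial of the torus of type `w`; `exists_ord` : the order polynomial of the group;
* `LfE f χ` : the multiplicities of `χ` occur, up to a sign, for infinitely many powers of `F`;
* `exists_deg` : the degree polynomial; `res` : a prime divisor of the degree divides the sums at the regular classes.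
-/

set_option autoImplicit false
set_option linter.unusedSectionVars false

namespace Cfsg.Agent.LV.One

open Cfsg Cfsg.Agent.DL Cfsg.Agent.DL.PP Cfsg.Agent.DL.Uni Cfsg.Agent.DL.Asm Cfsg.Agent.Nodes.Reps Matrix
  Cfsg.Agent.Characters.Core Cfsg.Agent.KZ.Lie Polynomial

open Classical in
/-- the numerator of `∑ m w / P w` -/
noncomputable def Sm {W : Type} [Fintype W] (P : W → ℤ[X]) (m : W → ℤ) : ℤ[X] := ∑ w, C (m w) * ∏ v ∈ Finset.univ.erase w, P v

theorem Sm_eval {W : Type} [Fintype W] {P : W → ℤ[X]} {t : ℤ} (h : ∀ w, (P w).eval t ≠ 0) (m : W → ℤ) :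
    (((Sm P m).eval t : ℤ) : ℂ) = ((∏ w, P w).eval t : ℤ) * ∑ w, (m w : ℂ) / ((P w).eval t : ℤ) := by
  classical
  rw [Sm, eval_finsetSum, Int.cast_sum, Finset.mul_sum]
  refine Finset.sum_congr rfl fun w _ => ?_
  have h1 : (((P w).eval t : ℤ) : ℂ) ≠ 0 := Int.cast_ne_zero.2 (h w)
  rw [← Finset.mul_prod_erase _ _ (Finset.mem_univ w), eval_mul, eval_mul, eval_C, Int.cast_mul, Int.cast_mul]
  field_simp

variable {p : ℕ} [Fact p.Prime] {k : Type} [Field k] [CharP k p] {Y : Type} [Group Y] {N : Type} [Fintype N]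
  [DecidableEq N] {ρ : Y →* GL N k} {F : MulAut Y} {G : Subgroup Y} [IsAlgClosed k] {D : Datum p ρ F G} {w w₀ : D.W}

variable (D) in
/-- the order polynomial of the torus of type `w`, with the sign of `w` -/
noncomputable def Pw (w : D.W) : ℤ[X] := C D.Mx.det.sign * ((X : ℤ[X]) • (D.Wm w * D.Mx).map C - 1).det

theorem Pw_eval' (w : D.W) (t : ℤ) : (Pw D w).eval t = D.Mx.det.sign * (t • (D.Wm w * D.Mx) - 1).det := by
  rw [Pw, eval_mul, eval_C, ← coe_evalRingHom, RingHom.map_det, map_sub, map_one]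
  congr 3
  generalize D.Wm w * D.Mx = A
  ext i j
  simp

theorem Pw_eval (w : D.W) {t : ℤ} (ht : 0 < t) :
    (Pw D w).eval t = sgZ D w * (t • (D.Wm w * D.Mx) - 1).det.natAbs := by
  obtain ⟨d, e, L⟩ := exists_lvl D
  have h1 := det_pos (L.pow w) (one_lt_pow₀ (Nat.one_lt_cast.2 (Fact.out : p.Prime).one_lt) L.e_pos.ne') ht
  rw [det_mul, show (D.Wm w).det = sgZ D w from rfl] at h1
  rw [Pw_eval', Int.natCast_natAbs]
  rcases sgZ_sign D w with h | h <;> rw [h] at h1 ⊢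
  · rw [one_mul] at h1
    rcases pos_and_pos_or_neg_and_neg_of_mul_pos h1 with h2 | h2
    · rw [Int.sign_eq_one_of_pos h2.1, abs_of_pos h2.2]
    · rw [Int.sign_eq_neg_one_of_neg h2.1, abs_of_neg h2.2]; ring
  · rcases pos_and_pos_or_neg_and_neg_of_mul_pos h1 with h2 | h2
    · rw [Int.sign_eq_neg_one_of_neg (by omega), abs_of_pos h2.2]
    · rw [Int.sign_eq_one_of_pos (by omega), abs_of_neg h2.2]; ring

theorem Pw_one (w : D.W) : (Pw D w).eval 1 = sgZ D w * ordT D w := by rw [Pw_eval w one_pos, one_smul, ordT]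

theorem Pw_pow {d e l j : ℕ} (L : Lvl D d e) (hl : 0 < l) (h : l = 1 + d * j) (w : D.W) :
    (Pw D w).eval ((p : ℤ) ^ (e * j)) = sgZ (D.pow hl) w * ordT (D.pow hl) w := by
  rw [Pw_eval w (pow_pos (Nat.cast_pos.2 (Fact.out : p.Prime).pos) _), ← mul_smul_comm, ← pow_Mx L, ← h]
  rfl

theorem Pw_zero (w : D.W) : (Pw D w).coeff 0 = (Pw D 1).coeff 0 ∧ IsUnit ((Pw D w).coeff 0) := by
  have h1 := Pw_one (D := D) 1
  simp only [coeff_zero_eq_eval_zero, Pw_eval', zero_smul, zero_sub, true_and]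
  rw [Pw_eval', map_one, one_mul] at h1
  refine IsUnit.mul ?_ (isUnit_iff_isUnit_det _ |>.1 isUnit_one.neg)
  rcases lt_trichotomy D.Mx.det 0 with h | h | h
  · rw [Int.sign_eq_neg_one_of_neg h]; exact isUnit_one.neg
  · rw [h, Int.sign_zero, zero_mul] at h1
    exact absurd (Nat.cast_eq_zero.1 h1.symm) (ordT_ne 1)
  · rw [Int.sign_eq_one_of_pos h]; exact isUnit_one

theorem pow_QS (hq : D.QS) {l : ℕ} (hl : 0 < l) : (D.pow hl).QS := fun a ha h0 => by
  have key : ∀ n, 0 ≤ D.g^[n] a := fun n => by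
    induction n with
    | zero => exact h0
    | succ n ih => rw [Function.iterate_succ_apply']; exact hq _ (D.iterate_g_root n ha) ih
  exact key l

variable [Fintype D.W] (hq : D.QS) (f : Fr D)
include hq f

theorem deg_div {c : Lbl D} (hc : Fx D w c) : RW f w c 1 = pc' p (GF F G) / (sg D w * ordT D w) := by
  have h1 : (ordT D w : ℂ) ≠ 0 := Nat.cast_ne_zero.2 (ordT_ne w)
  rw [eq_div_iff (mul_ne_zero (left_ne_zero_of_mul_eq_one (sg_mul_self D w)) h1), mul_left_comm, RW_deg f hq hc, ← mul_assoc,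
    sg_mul_self, one_mul]

/-- one level : the order -/
theorem lev_ord {P : D.W → ℤ[X]} {t : ℤ} (hP : ∀ w, (P w).eval t = sgZ D w * ordT D w) :
    (Nat.card D.W : ℤ) * (∏ w, P w).eval t = pc' p (GF F G) * (Sm P 1).eval t ∧ (Sm P 1).eval t ≠ 0 := by
  have h0 : ∀ w, (P w).eval t ≠ 0 := fun w => hP w ▸ mul_ne_zero
    (by rcases sgZ_sign D w with h | h <;> simp [h]) (Nat.cast_ne_zero.2 (ordT_ne w))
  have h1 := congrFun (avg_one f) 1
  have h2 : (Nat.card D.W : ℂ) ≠ 0 := Nat.cast_ne_zero.2 Nat.card_pos.ne'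
  rw [avg_top, finsum_eq_sum_of_fintype, inv_mul_eq_iff_eq_mul₀ h2, mul_one] at h1
  have h3 : (Nat.card D.W : ℤ) * (∏ w, P w).eval t = pc' p (GF F G) * (Sm P 1).eval t := by
    refine Int.cast_injective (α := ℂ) ?_
    rw [Int.cast_mul, Int.cast_mul, Sm_eval h0, Int.cast_natCast, Int.cast_natCast, ← h1, mul_left_comm, mul_comm,
      Finset.mul_sum _ _ (pc' p (GF F G) : ℂ)]
    congr 1
    refine Finset.sum_congr rfl fun w _ => ?_
    rw [deg_div hq f fun v => by rw [map_one, map_one], hP, Pi.one_apply, Int.cast_mul, Int.cast_natCast, Int.cast_one,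
      one_mul, mul_one_div]
    rfl
  refine ⟨h3, right_ne_zero_of_mul (h3 ▸ mul_ne_zero (Nat.cast_ne_zero.2 Nat.card_pos.ne') ?_)⟩
  rw [eval_prod]
  exact Finset.prod_ne_zero_iff.2 fun w _ => h0 w

/-- one level : the degree -/
theorem lev_deg [Fintype ↥(GF F G)] {P : D.W → ℤ[X]} {t : ℤ} (hP : ∀ w, (P w).eval t = sgZ D w * ordT D w)
    {χ : GF F G → ℂ} {ε : ℂ} {m : D.W → ℤ} (hm : ∀ w, ∑ᶠ c, classInner χ (RW f w c) = ε * m w) :
    χ 1 * ((Sm P 1).eval t : ℤ) = ε * ((Sm P m).eval t : ℤ) := by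
  have h0 : ∀ w, (P w).eval t ≠ 0 := fun w => hP w ▸ mul_ne_zero
    (by rcases sgZ_sign D w with h | h <;> simp [h]) (Nat.cast_ne_zero.2 (ordT_ne w))
  have h1 := val_one f χ
  have h2 : (Nat.card D.W : ℂ) ≠ 0 := Nat.cast_ne_zero.2 Nat.card_pos.ne'
  have h3 := congrArg (Int.cast : ℤ → ℂ) (lev_ord hq f hP).1
  have h4 : (pc' p (GF F G) : ℂ) ≠ 0 := Nat.cast_ne_zero.2 fun e => not_dvd_pc' (p := p) (GF F G) (e ▸ dvd_zero p)
  rw [eq_inv_mul_iff_mul_eq₀ h2, finsum_eq_sum_of_fintype, Finset.sum_congr rfl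
    (g := fun w => pc' p (GF F G) * ε * ((m w : ℂ) / ((P w).eval t : ℤ))) fun w _ => by
      rw [finsum_congr (g := fun c => classInner χ (RW f w c) * (pc' p (GF F G) / (sg D w * ordT D w))) fun c => by
        by_cases h : classInner χ (RW f w c) = 0
        · rw [h, zero_mul, zero_mul]
        · rw [deg_div hq f (fx_of_ne f h)], ← finsum_mul, hm, hP, Int.cast_mul, Int.cast_natCast, sg_eq]
      ring, ← Finset.mul_sum] at h1
  refine mul_left_cancel₀ h4 ?_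
  rw [Sm_eval h0 m]
  push_cast at h3
  linear_combination (((∏ w, P w).eval t : ℤ) : ℂ) * h1 - χ 1 * h3

/-- **The order polynomial.** -/
theorem exists_ord : ∃ Q : ℤ[X], Q.eval 1 = pc' p (GF F G) ∧ ∀ (l j : ℕ) (_ : 0 < l), l = 1 + f.d * j →
    Q.eval ((p : ℤ) ^ (f.e * j)) = pc' p (GF (F ^ l) G) := by
  classical
  have hp : p.Prime := Fact.out
  have h1 := fun (l j : ℕ) (hl : 0 < l) (h : l = 1 + f.d * j) =>
    lev_ord (D := D.pow hl) (pow_QS hq hl) (nonempty_fr _).some (P := Pw D) (Pw_pow f.L hl h)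
  have h2 := lev_ord hq f (P := Pw D) Pw_one
  obtain ⟨Q, hQ⟩ := exists_quot (S := Sm (Pw D) 1) (P := ∏ w, Pw D w) (n := Nat.card D.W)
    (Nat.cast_ne_zero.2 Nat.card_pos.ne') (by
      rw [Sm, finsetSum_coeff, Finset.sum_congr rfl (g := fun _ => (Pw D 1).coeff 0 ^ (Fintype.card D.W - 1)) fun w _ => by
        rw [Pi.one_apply, C_1, one_mul, coeff_zero_prod, Finset.prod_congr rfl fun v _ => (Pw_zero v).1, Finset.prod_const,
          Finset.card_erase_of_mem (Finset.mem_univ _), Finset.card_univ], Finset.sum_const, Finset.card_univ, nsmul_eq_mul,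
        ((Pw_zero 1).2.pow _).mul_right_dvd, Nat.card_eq_fintype_card])
    (dvd_of_values ((Polynomial.map_ne_zero_iff (RingHom.injective_int _)).2 fun e => h2.2 (by rw [e, eval_zero])) fun B =>
      ⟨p ^ (f.e * B), (Nat.le_mul_of_pos_left _ f.L.e_pos).trans_lt (Nat.lt_pow_self hp.one_lt), pc' p (GF (F ^ (1 + f.d * B)) G), by
        rw [show ((p ^ (f.e * B) : ℕ) : ℚ) = (((p : ℤ) ^ (f.e * B) : ℤ) : ℚ) by simp, eval_map_cast, eval_map_cast, eval_mul,
          eval_C, ← Int.cast_mul]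
        exact congrArg _ (h1 _ B (by omega) rfl).1⟩)
  have h3 : ∀ t n : ℤ, (Nat.card D.W : ℤ) * (∏ w, Pw D w).eval t = n * (Sm (Pw D) 1).eval t ∧ (Sm (Pw D) 1).eval t ≠ 0 →
      Q.eval t = n := fun t n h => by
    have h4 := congrArg (eval t) hQ
    rw [eval_mul, eval_mul, eval_C, h.1, mul_comm] at h4
    exact (mul_left_cancel₀ h.2 h4).symm
  exact ⟨Q, h3 _ _ h2, fun l j hl h => h3 _ _ (h1 l j hl h)⟩

omit hq [Fintype D.W]

variable [Fintype ↥(GF F G)] {χ : GF F G → ℂ}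

/-- the degree divides the index of the torus times the sum of the multiplicities -/
theorem deg_dvd (hχ : IsIrrCharacter (GF F G) χ) {m : ℤ} (hm : ∑ᶠ c, classInner χ (RW f w c) = m) :
    (charDegree χ * ordT D w : ℤ) ∣ Nat.card (GF F G) * m := by
  have : Finite (Blk.FS D w) := finite_Fx D w
  have := Fintype.ofFinite (Blk.FS D w)
  obtain ⟨n, hn⟩ := PQ.Sm.exists_idx (D := D) w
  have e := PQ.Sm.res_ext χ
  have h1 := PQ.Sm.rst_om (R := R D) (χ := extendByZero (GF F G) χ) (e.symm ▸ hχ) hn 1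
  have h2 := Blk.om_int hχ (isCls_iff.1 ((sys' D).isCls_R (Tw_mem w) (dl 1))) fun g =>
    PQ.Sm.R_dl_int (St.full D) (Tw_mem w) 1 g.2
  have h3 : (charDegree χ : ℂ) ≠ 0 := deg_cast (isIrr_isCharacter hχ) ▸ Blocks.Basic.irr_one_ne_zero hχ
  rw [← PQ.Sm.tot_eq f, ← tot_fin, hm, e, ← deg_cast (isIrr_isCharacter hχ), mul_comm (charDegree χ : ℂ), ← div_eq_iff h3] at h1
  rw [← h1, show (n : ℂ) * m / charDegree χ = algebraMap ℚ ℂ ((n * m : ℤ) / charDegree χ) by simp,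
    isIntegral_algebraMap_iff (algebraMap ℚ ℂ).injective, IsIntegrallyClosed.isIntegral_iff] at h2
  obtain ⟨a, ha⟩ := h2
  rw [eq_div_iff (by exact_mod_cast h3), algebraMap_int_eq, eq_intCast] at ha
  have h4 : a * charDegree χ = n * m := by exact_mod_cast ha
  exact ⟨a, by rw [hn, card_Tw, Nat.cast_mul]; linear_combination (-ordT D w : ℤ) * h4⟩

variable (χ) in
/-- the multiplicities of `χ` occur, up to a sign, for infinitely many powers of `F` -/
def LfE : Prop := ∀ B M : ℕ, M ≠ 0 → ∃ (l : ℕ) (hl : 0 < l) (_ : Fintype ↥(GF (F ^ l) G)) (f' : Fr (D.pow hl))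
  (χ' : GF (F ^ l) G → ℂ) (ε : ℂ), B < l ∧ l ≡ 1 [MOD M] ∧ IsIrrCharacter (GF (F ^ l) G) χ' ∧
    (ε = 1 ∨ ε = -1) ∧ ∀ w c, classInner χ' (RW f' w c) = ε * classInner χ (RW f w c)

/-- the existence of the degree polynomial -/
theorem exists_poly (hq : D.QS) (hL : LfE f χ) (hχ : IsGeneralizedCharacter (GF F G) χ) :
    ∃ g : ℚ[X], LfD f χ g ∧ ((g.eval 1 : ℚ) : ℂ) = χ 1 := by
  have hp : p.Prime := Fact.out
  have := Fintype.ofFinite D.W
  choose m hm using tot_int f hχ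
  have h1 : ∀ B M : ℕ, M ≠ 0 → ∃ (l j : ℕ) (hl : 0 < l) (_ : Fintype ↥(GF (F ^ l) G)) (f' : Fr (D.pow hl))
      (χ' : GF (F ^ l) G → ℂ) (ε : ℂ), B < l ∧ l ≡ 1 [MOD M] ∧ l = 1 + f.d * j ∧ IsIrrCharacter (GF (F ^ l) G) χ' ∧
      (ε = 1 ∨ ε = -1) ∧ (∀ w c, classInner χ' (RW f' w c) = ε * classInner χ (RW f w c)) ∧
      (Sm (Pw D) 1).eval ((p : ℤ) ^ (f.e * j)) ≠ 0 ∧
      ε * χ' 1 * ((Sm (Pw D) 1).eval ((p : ℤ) ^ (f.e * j)) : ℤ) = ((Sm (Pw D) m).eval ((p : ℤ) ^ (f.e * j)) : ℤ) :=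
    fun B M hM => by
      obtain ⟨l, hl, i, f', χ', ε, h1, h2, h3, h4, h5⟩ := hL B (M * f.d) (mul_ne_zero hM f.L.d_pos.ne')
      obtain ⟨j, hj⟩ := (Nat.modEq_iff_dvd' hl).1 (h2.of_mul_left _).symm
      have h6 : l = 1 + f.d * j := by omega
      refine ⟨l, j, hl, i, f', χ', ε, h1, h2.of_mul_right _, h6, h3, h4, h5,
        (lev_ord (D := D.pow hl) (pow_QS hq hl) f' (P := Pw D) (Pw_pow f.L hl h6)).2, ?_⟩
      have h7 := lev_deg (D := D.pow hl) (pow_QS hq hl) f' (P := Pw D) (Pw_pow f.L hl h6) (χ := χ') (ε := ε) (m := m)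
        fun w => by rw [← hm, mul_finsum]; exact finsum_congr (h5 w)
      rw [mul_assoc]
      refine (congrArg (ε * ·) h7).trans ?_
      rcases h4 with rfl | rfl <;> simp
  have h2 := (lev_ord hq f (P := Pw D) Pw_one).2
  obtain ⟨g, hg⟩ := dvd_of_values (g := (Sm (Pw D) m).map (Int.castRingHom ℚ)) (f := (Sm (Pw D) 1).map (Int.castRingHom ℚ))
    ((Polynomial.map_ne_zero_iff (RingHom.injective_int (Int.castRingHom ℚ))).2 fun e => h2 (by rw [e, eval_zero])) fun B => by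
      obtain ⟨l, j, hl, i, f', χ', ε, h3, -, h4, h5, h6, -, -, h7⟩ := h1 (1 + f.d * B) 1 one_ne_zero
      have h8 : B < j := lt_of_mul_lt_mul_left (a := f.d) (by omega) (Nat.zero_le _)
      obtain ⟨η, rfl⟩ : ∃ η : ℤ, ε = η := by
        rcases h6 with rfl | rfl
        exacts [⟨1, by simp⟩, ⟨-1, by simp⟩]
      refine ⟨p ^ (f.e * j), h8.trans ((Nat.le_mul_of_pos_left _ f.L.e_pos).trans_lt (Nat.lt_pow_self hp.one_lt)),
        η * charDegree χ', ?_⟩
      rw [show ((p ^ (f.e * j) : ℕ) : ℚ) = (((p : ℤ) ^ (f.e * j) : ℤ) : ℚ) by simp, eval_map_cast, eval_map_cast]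
      rw [← deg_cast (isIrr_isCharacter h5)] at h7
      exact_mod_cast h7.symm
  have h3 : ∀ (t : ℤ) (z : ℂ), (Sm (Pw D) 1).eval t ≠ 0 → z * ((Sm (Pw D) 1).eval t : ℤ) = ((Sm (Pw D) m).eval t : ℤ) →
      z = (g.eval (t : ℚ) : ℚ) := fun t z h h' => by
    have h4 := congrArg (eval (t : ℚ)) hg
    rw [eval_mul, eval_map_cast, eval_map_cast] at h4
    refine mul_right_cancel₀ (Int.cast_ne_zero.2 h) (h'.trans ?_)
    rw [mul_comm]
    exact_mod_cast h4
  refine ⟨g, fun B M hM => ?_, ?_⟩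
  · obtain ⟨l, j, hl, i, f', χ', ε, h4, h5, h6, h7, h8, h9, h10, h11⟩ := h1 B M hM
    refine ⟨l, j, hl, i, f', χ', ε, h4, h5, h6, h7, h8, h9, (h3 _ _ h10 h11).trans ?_⟩
    rw [show ((p : ℂ) ^ (f.e * j)) = algebraMap ℚ ℂ (((p : ℤ) ^ (f.e * j) : ℤ) : ℚ) by simp, aeval_algebraMap_apply,
      coe_aeval_eq_eval, eq_ratCast]
  · have h4 := h3 1 (χ 1) h2 (by rw [lev_deg hq f (P := Pw D) Pw_one (ε := 1) fun w => by rw [hm, one_mul], one_mul])
    rw [h4, Int.cast_one]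

/-- **The degree polynomial.** -/
theorem exists_deg (hq : D.QS) (hL : LfE f χ) (hχ : IsIrrCharacter (GF F G) χ) :
    ∃ (c : ℚ) (n : ℕ) (u Q : ℤ[X]), LfD f χ (C c * (X ^ n * u).map (Int.castRingHom ℚ)) ∧
      c * (u.eval 1 : ℤ) = charDegree χ ∧ Q.eval 1 = pc' p (GF F G) ∧
      (∀ (l j : ℕ) (_ : 0 < l), l = 1 + f.d * j → Q.eval ((p : ℤ) ^ (f.e * j)) = pc' p (GF (F ^ l) G)) ∧
      ∀ w, ∑ᶠ c, classInner χ (RW f w c) ≠ 0 → u * Pw D w ∣ Q := by
  have hp : p.Prime := Fact.out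
  have := Fintype.ofFinite D.W
  obtain ⟨g, h1, h2⟩ := exists_poly f hq hL (gen_of_irr hχ)
  obtain ⟨Q, h3, h4⟩ := exists_ord hq f
  obtain ⟨c, n, u, h5, h6, h7, rfl⟩ := exists_form (g := g) fun e =>
    Blocks.Basic.irr_one_ne_zero hχ (by rw [← h2, e, eval_zero, Rat.cast_zero])
  refine ⟨c, n, u, Q, h1, ?_, h3, h4, fun w hw => ?_⟩
  · rw [← deg_cast (isIrr_isCharacter hχ), eval_mul, eval_C, ← Int.cast_one, eval_map_cast, eval_mul, eval_pow, eval_X, one_pow,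
      one_mul] at h2
    exact_mod_cast h2
  obtain ⟨m, hm⟩ := tot_int f (gen_of_irr hχ) w
  refine dvd_of_map_dvd (n := c.den * m) (h6.mul (isPrimitive_of_coeff (Pw_zero w).2))
    (mul_ne_zero (Nat.cast_ne_zero.2 c.den_ne_zero) fun e => hw (by rw [hm, e, Int.cast_zero]))
    (dvd_of_pow_values hp (by rw [mul_coeff_zero]; exact mul_ne_zero h7 (Pw_zero w).2.ne_zero) fun B => ?_)
  obtain ⟨l, j, hl, i, f', χ', ε, h8, -, h9, h10, h11, h12, h13⟩ := h1 (1 + f.d * B) 1 one_ne_zero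
  have h14 : B < j := lt_of_mul_lt_mul_left (a := f.d) (by omega) (Nat.zero_le _)
  obtain ⟨η, rfl, hη⟩ : ∃ η : ℤ, ε = η ∧ IsUnit η := by
    rcases h11 with rfl | rfl
    exacts [⟨1, by simp, isUnit_one⟩, ⟨-1, by simp, isUnit_one.neg⟩]
  have h15 := deg_dvd (D := D.pow hl) (w := w) f' h10 (m := η * m) (by
    rw [Int.cast_mul, ← hm, mul_finsum]
    exact finsum_congr (h12 w))
  refine ⟨f.e * j, (Nat.card (GF (F ^ l) G)).factorization p, h14.trans_le (Nat.le_mul_of_pos_left _ f.L.e_pos), ?_⟩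
  have h16 : (c.den : ℤ) * (η * charDegree χ') = c.num * (X ^ n * u).eval ((p : ℤ) ^ (f.e * j)) := by
    rw [show ((p : ℂ) ^ (f.e * j)) = algebraMap ℚ ℂ (((p : ℤ) ^ (f.e * j) : ℤ) : ℚ) by simp, aeval_algebraMap_apply,
      coe_aeval_eq_eval, eq_ratCast, eval_mul, eval_C, eval_map_cast, ← deg_cast (isIrr_isCharacter h10)] at h13
    have h17 : ((η * charDegree χ' : ℤ) : ℚ) = c * ((X ^ n * u).eval ((p : ℤ) ^ (f.e * j)) : ℤ) := by exact_mod_cast h13
    refine Int.cast_injective (α := ℚ) ?_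
    rw [Int.cast_mul, h17, Int.cast_mul, ← mul_assoc, Int.cast_natCast, Rat.den_mul_eq_num]
  have h17 : u.eval ((p : ℤ) ^ (f.e * j)) ∣ c.den * charDegree χ' := by
    rw [← hη.dvd_mul_left, mul_left_comm, h16, eval_mul, ← mul_assoc]
    exact Dvd.intro_left _ rfl
  rw [eval_mul, eval_mul, eval_C, Pw_pow f.L hl h9, h4 l j hl h9, mul_left_comm,
    (show IsUnit (sgZ (D.pow hl) w) by rcases sgZ_sign (D.pow hl) w with h | h <;> simp [h]).mul_left_dvd]
  refine (mul_dvd_mul_right h17 _).trans ?_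
  rw [mul_assoc, mul_assoc, mul_left_comm _ (c.den : ℤ) (m * _)]
  refine mul_dvd_mul_left _ (h15.trans ?_)
  have h18 := congrArg (Nat.cast : ℕ → ℤ) (pc_mul_pc' p (GF (F ^ l) G))
  rw [pc, Nat.cast_mul, Nat.cast_pow] at h18
  rw [mul_left_comm, hη.mul_left_dvd]
  exact dvd_of_eq (by linear_combination (-m) * h18)

/-- **The residue theorem.** -/
theorem res (hq : D.QS) (hL : LfE f χ) (hχ : IsIrrCharacter (GF F G) χ) {l : ℕ} (hl : l.Prime) (hp : l ≠ p)
    (hS : Blk.SylT D l w₀) (h0 : ∑ᶠ c, classInner χ (RW f w₀ c) ≠ 0) (hd : l ∣ charDegree χ) [Nonempty D.I] (hR : RegE D w)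
    {m : ℤ} (hm : ∑ᶠ c, classInner χ (RW f w c) = m) : (l : ℤ) ∣ m := by
  obtain ⟨c, n, u, Q, h1, h2, h3, -, h4⟩ := exists_deg f hq hL hχ
  have h5 := Int.natAbs_dvd_natAbs.2 (eval_dvd (x := 1) (h4 w₀ h0))
  rw [eval_mul, Pw_one, h3, Int.natAbs_mul, Int.natAbs_mul, Int.natAbs_natCast, Int.natAbs_natCast,
    show (sgZ D w₀).natAbs = 1 by rcases sgZ_sign D w₀ with h | h <;> simp [h], one_mul] at h5
  have h6 : ¬ (l : ℤ) ∣ u.eval 1 := fun e => by
    have h7 := (Nat.factorization_le_iff_dvd (mul_pos hl.pos (Nat.pos_of_ne_zero (ordT_ne w₀))).ne' Nat.card_pos.ne').2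
      ((mul_dvd_mul_right (Int.natCast_dvd.1 e) _).trans (h5.trans (Dvd.intro_left _ (pc_mul_pc' p (GF F G))))) l
    rw [hS, Nat.factorization_mul hl.ne_zero (ordT_ne w₀), Finsupp.add_apply, hl.factorization_self] at h7
    omega
  have h7 : c.num * u.eval 1 = c.den * charDegree χ := Int.cast_injective (α := ℚ) (by
    rw [Int.cast_mul, Int.cast_mul, Int.cast_natCast, Int.cast_natCast, ← h2, ← mul_assoc, Rat.den_mul_eq_num])
  have h8 := ((Nat.prime_iff_prime_int.1 hl).dvd_or_dvd (h7 ▸ (Int.natCast_dvd_natCast.2 hd).mul_left _)).resolve_right h6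
  refine res_dvd f h1 (gen_of_irr hχ) hR (a := c.num) (b := c.den) (g₀ := X ^ n * u)
    (by rw [← mul_assoc, ← C_mul, Int.cast_natCast, Rat.den_mul_eq_num]) hl hp h8 (fun e => hl.not_dvd_one ?_) hm
  rw [← c.reduced]
  exact Nat.dvd_gcd (Int.natCast_dvd.1 h8) (Int.natCast_dvd_natCast.1 e)

end Cfsg.Agent.LV.One
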