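import Cfsg.Agent.S0919
import Cfsg.Agent.S0922
import Cfsg.Agent.Blocks.Fong
import Cfsg.Agent.Blocks.Induced
import Cfsg.Agent.Blocks.Orthogonality
import Cfsg.Agent.Characters.Linear
import Cfsg.Agent.CharactersDeep.NormalInd

/-!
# LV, one label at a regular torus: the block theoretic part (helper63)

* `four` : Fourier inversion modulo `M` on the `r`-regular elements of an abelian group;
* `ind_congr` : `x` an `r`-element with abelian centraliser `K`; two characters of `K` of order prime to `r` which occur in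
  the generalised decomposition of the same irreducible character have congruent induced characters on the section of `x`.
-/

set_option autoImplicit false

namespace Cfsg.Agent.LV.One

open Cfsg Cfsg.Agent.Blocks.Local Cfsg.Agent.Blocks Cfsg.Agent.Characters.Core
open scoped ComplexConjugate

variable {r : ℕ} [hr : Fact r.Prime] {M : Ideal AlgInt}

section Ab

variable {K : Type} [Group K] [Fintype K] (hc : ∀ a b : K, a * b = b * a)

variable (r) in
/-- the `r`-regular elements of an abelian group -/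
def regS : Subgroup K where
  carrier := {s | ¬ r ∣ orderOf s}
  one_mem' := by simpa using hr.out.not_dvd_one
  mul_mem' {a b} ha hb e :=
    (hr.out.dvd_mul.1 (e.trans (Commute.orderOf_mul_dvd_mul_orderOf (hc a b)))).elim ha hb
  inv_mem' {a} ha := by simpa using ha

theorem not_dvd_regS : ¬ r ∣ Nat.card (regS r hc) := fun h => by
  obtain ⟨x, hx⟩ := exists_prime_orderOf_dvd_card' (G := regS r hc) r h
  exact x.2 (by rw [Subgroup.orderOf_coe, hx])

theorem eq_one_of_regS {ψ : K →* ℂˣ} (h : ¬ r ∣ orderOf ψ) (h1 : ∀ s ∈ regS r hc, ψ s = 1) : ψ = 1 := by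
  refine MonoidHom.ext fun t => ?_
  have h2 : ψ t ^ r ^ (Nat.card K).factorization r = 1 := by
    rw [← map_pow]
    refine h1 _ fun e => Nat.not_dvd_ordCompl hr.out (Nat.card_pos (α := K)).ne' (e.trans (orderOf_dvd_of_pow_eq_one ?_))
    rw [← pow_mul, Nat.ordProj_mul_ordCompl_eq_self, pow_card_eq_one']
  have h3 : ψ t ^ orderOf ψ = 1 := by rw [← MonoidHom.pow_apply, pow_orderOf_eq_one, MonoidHom.one_apply]
  exact (pow_eq_one_iff_of_coprime ((hr.out.coprime_iff_not_dvd.2 h).pow_left _)).1 ⟨h2, h3⟩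

theorem val_ring [M.IsPrime] (ψ : K →* ℂˣ) (t : K) : MemLocalRing M (ψ t : ℂ) := by
  refine memLocalRing_of_isIntegral (IsIntegral.of_pow (Nat.card_pos (α := K)) ?_)
  rw [← Units.val_pow_eq_pow_val, ← map_pow, pow_card_eq_one', map_one, Units.val_one]
  exact isIntegral_one

open Classical in
theorem sum_regS {θ η : K →* ℂˣ} (h : ¬ r ∣ orderOf θ) (h' : ¬ r ∣ orderOf η) :
    ∑ s : regS r hc, (η⁻¹ s : ℂ) * θ s = if θ = η then (Nat.card (regS r hc) : ℂ) else 0 := by
  have h1 := sum_hom_units ((Units.coeHom ℂ).comp ((η⁻¹ * θ).comp (regS r hc).subtype))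
  rw [show ∑ s : regS r hc, (η⁻¹ s : ℂ) * θ s =
    ∑ s : regS r hc, ((Units.coeHom ℂ).comp ((η⁻¹ * θ).comp (regS r hc).subtype)) s from
      Finset.sum_congr rfl fun s _ => by simp, h1, Nat.card_eq_fintype_card, Nat.cast_ite, Nat.cast_zero]
  refine if_congr ⟨fun e => ?_, fun e => ?_⟩ rfl rfl
  · have h2 : η⁻¹ * θ = 1 := eq_one_of_regS hc (fun e => (hr.out.dvd_mul.1 (e.trans
      (Commute.orderOf_mul_dvd_mul_orderOf (mul_comm η⁻¹ θ)))).elim (fun e => h' (e.trans (orderOf_inv η).dvd)) h) fun s hs =>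
        Units.ext (DFunLike.congr_fun e ⟨s, hs⟩)
    exact MonoidHom.ext fun s => (inv_mul_eq_one.1 (DFunLike.congr_fun h2 s)).symm
  · refine MonoidHom.ext fun s => ?_
    simp [e]

include hc in
/-- Fourier inversion modulo `M` -/
theorem four (hM : IsPModular r M) {ι : Type} [Fintype ι] {θ : ι → K →* ℂˣ} (hθ : Function.Injective θ) {b : ι → ℂ}
    (hb : ∀ i, b i ≠ 0 → ¬ r ∣ orderOf (θ i))
    (h : ∀ s : K, ¬ r ∣ orderOf s → MemLocalIdeal M (∑ i, b i * θ i s)) (j : ι) : MemLocalIdeal M (b j) := by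
  classical
  have := isPrime_of_isPModular hM
  by_cases h0 : b j = 0
  · rw [h0]
    exact memLocalIdeal_zero
  have h1 : MemLocalIdeal M (∑ s : regS r hc, ((θ j)⁻¹ s : ℂ) * ∑ i, b i * θ i s) :=
    memLocalIdeal_sum fun s _ => memLocalIdeal_mul_left (val_ring _ _) (h s s.2)
  have h2 : ∑ s : regS r hc, ((θ j)⁻¹ s : ℂ) * ∑ i, b i * θ i s = Nat.card (regS r hc) * b j := by
    simp only [Finset.mul_sum]
    rw [Finset.sum_comm, Finset.sum_eq_single j]
    · rw [Finset.sum_congr rfl fun s _ => mul_left_comm _ _ _, ← Finset.mul_sum, sum_regS hc (hb j h0) (hb j h0),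
        if_pos rfl, mul_comm]
    · intro i _ hi
      by_cases h3 : b i = 0
      · simp [h3]
      · rw [Finset.sum_congr rfl fun s _ => mul_left_comm _ _ _, ← Finset.mul_sum, sum_regS hc (hb i h3) (hb j h0),
          if_neg fun e => hi (hθ e), mul_zero]
    · simp
  have h3 := memLocalIdeal_mul_left (memLocalRing_inv_natCast hM (not_dvd_regS hc)) (h2 ▸ h1)
  rwa [inv_mul_cancel_left₀ (Nat.cast_ne_zero.2 Nat.card_pos.ne')] at h3

include hc in
/-- characters of order prime to `r` in the same block of an abelian group are equal -/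
theorem eq_of_sameBlock (hM : IsPModular r M) {θ η : K →* ℂˣ} (h : ¬ r ∣ orderOf θ) (h' : ¬ r ∣ orderOf η)
    (e : SameBlock M (fun s => (η s : ℂ)) fun s => (θ s : ℂ)) : θ = η := by
  classical
  have := isPrime_of_isPModular hM
  by_contra h0
  have h1 : MemLocalIdeal M (∑ s : regS r hc, (η⁻¹ s : ℂ) * (η s - θ s)) :=
    memLocalIdeal_sum fun s _ => memLocalIdeal_mul_left (val_ring _ _) (by
      have h2 : Subgroup.centralizer ({(s : K)} : Set K) = ⊤ :=
        eq_top_iff.2 fun g _ => Subgroup.mem_centralizer_singleton_iff.2 (hc _ _)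
      simpa [centralChar, h2] using e s)
  simp only [mul_sub] at h1
  rw [Finset.sum_sub_distrib, sum_regS hc h' h', sum_regS hc h h', if_pos rfl, if_neg h0, sub_zero,
    memLocalIdeal_natCast_iff hM] at h1
  exact not_dvd_regS hc h1

end Ab

variable {H : Type} [Group H] [Fintype H] {x : H} {K : Subgroup H} (hM : IsPModular r M) (hx : ∃ j, orderOf x = r ^ j)
  (hK : ∀ g, g ∈ K ↔ g * x = x * g) (hc : ∀ a b : K, a * b = b * a) {ι : Type} [Fintype ι] {θ : ι → K →* ℂˣ}
  (hθ : Function.Injective θ) (χ : IrrCharacter H) {a : ι → ℂ} (hb : ∀ i, a i ≠ 0 → ¬ r ∣ orderOf (θ i))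
  (ha : ∀ s : K, ¬ r ∣ orderOf s → (χ : H → ℂ) (s * x) = ∑ i, a i * θ i s)
include hM hx hK hc hθ hb ha

/-- the block of a character which occurs induces the block of `χ` -/
theorem induces {j : ι} (hj : a j ≠ 0) (g : H) :
    MemLocalIdeal M (inducedCentralChar K (fun s => (θ j s : ℂ)) g - centralChar (χ : H → ℂ) g) := by
  classical
  have := isPrime_of_isPModular hM
  have := Fintype.ofFinite K
  let ξ : ι → IrrCharacter K := fun i => ⟨fun s => (θ i s : ℂ), Characters.Linear.isIrrCharacter_hom _⟩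
  have hxK : x ∈ K := (hK x).2 rfl
  have hb0 : IsPBlock M (blockOf M (ξ j : K → ℂ)) := ⟨_, rfl⟩
  have hj0 : ξ j ∈ blockOf M (ξ j : K → ℂ) := fun s => by
    rw [sub_self]
    exact memLocalIdeal_zero
  obtain ⟨B, hB⟩ := S0919.result r M hM (Subgroup.zpowers x) K
    (by
      obtain ⟨j, hj⟩ := hx
      exact IsPGroup.of_card (by rw [Nat.card_zpowers, hj]))
    (Subgroup.zpowers_le.2 hxK) (fun g hg => (hK g).2 (hg x (Subgroup.mem_zpowers x)).symm)
    (fun g hg => Subgroup.centralizer_le_normalizer _ (by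
      rintro _ ⟨n, rfl⟩
      exact ((Commute.symm ((hK g).1 hg)).zpow_left n).eq)) _ hb0
  refine hB.2.2 _ hj0 χ ?_ g
  by_contra hχ
  have h1 := S0922.result r M hM K _ B hB ⟨x, hxK⟩ (fun z hz g hg => (hK g).2 (by
    obtain ⟨y, e, h1, ⟨i, h2⟩, h3⟩ := hz
    obtain ⟨j, hj⟩ := hx
    have e : z * y = x := e
    have h4 : y = 1 := by
      have h5 : y = z⁻¹ * x := eq_inv_mul_of_mul_eq e
      have h6 : Commute z⁻¹ x := (e ▸ (Commute.refl z).mul_right h1 : Commute z x).inv_left
      have h7 := h6.orderOf_mul_dvd_mul_orderOf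
      rw [← h5, orderOf_inv, h2, hj, ← pow_add, Nat.dvd_prime_pow hr.out] at h7
      obtain ⟨n, -, h8⟩ := h7
      rcases n with _ | n
      · exact orderOf_eq_one_iff.1 (by simpa using h8)
      · exact absurd (h8 ▸ dvd_pow_self r n.succ_ne_zero) h3
    rw [h4, mul_one] at e
    exact (Subgroup.mem_centralizer_singleton_iff.1 (e ▸ hg)))) χ hχ
  have h2 : ∀ s : K, blockCoeff (blockOf M (ξ j : K → ℂ)) s * (χ : H → ℂ) (s * x) =
      ∑ i, a i * (blockCoeff (blockOf M (ξ j : K → ℂ)) s * (ξ i : K → ℂ) s) := fun s => by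
    by_cases hs : r ∣ orderOf s
    · have h3 : blockCoeff (blockOf M (ξ j : K → ℂ)) s = 0 := by
        rw [blockCoeff, Orthogonality.weak_block_orthogonality hM _ (S0913.result r M hM _ hb0)
          (by simpa using hr.out.not_dvd_one) hs, mul_zero]
      simp [h3]
    · rw [ha s hs, Finset.mul_sum]
      exact Finset.sum_congr rfl fun i _ => mul_left_comm _ _ _
  rw [finsum_eq_sum_of_fintype, Finset.sum_congr rfl fun s _ => h2 s, Finset.sum_comm, Finset.sum_eq_single j,
    ← Finset.mul_sum, Fong.sum_blockCoeff_mul, if_pos hj0] at h1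
  · exact hj (by simpa [ξ] using h1)
  · intro i _ hi
    by_cases h3 : a i = 0
    · simp [h3]
    · rw [← Finset.mul_sum, Fong.sum_blockCoeff_mul, if_neg, mul_zero]
      exact fun e => hi (hθ (eq_of_sameBlock hc hM (hb i h3) (hb j hj) e))
  · simp

/-- the induced characters are congruent at the elements with centraliser `K` -/
theorem ind_congr {i j : ι} (hi : a i ≠ 0) (hj : a j ≠ 0) {g : H} (hg : Subgroup.centralizer ({g} : Set H) = K) :
    MemLocalIdeal M (indFun K (fun s => (θ i s : ℂ)) g - indFun K (fun s => (θ j s : ℂ)) g) := by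
  have := isPrime_of_isPModular hM
  have h1 := memLocalIdeal_sub_trans (induces hM hx hK hc hθ χ hb ha hi g)
    (memLocalIdeal_sub_comm (induces hM hx hK hc hθ χ hb ha hj g))
  have h2 : ∀ η : K →* ℂˣ, inducedCentralChar K (fun s => (η s : ℂ)) g = indFun K (fun s => (η s : ℂ)) g := fun η => by
    rw [← Induced.centralChar_indFun, centralChar, hg, CharactersDeep.NormalInd.indFun_one]
    have : (K.index : ℂ) ≠ 0 := Nat.cast_ne_zero.2 Subgroup.index_ne_zero_of_finite
    simp only [map_one, Units.val_one, mul_one]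
    field_simp
  rwa [h2, h2] at h1

end Cfsg.Agent.LV.One
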