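import Cfsg.Agent.LV.One.Sys
import Cfsg.Agent.LV.One.Gal
import Cfsg.Agent.KZ.Lie.McTor
import Cfsg.Agent.DL.St.Main

/-!
# LV, one label at a regular torus (helper63)

* `RegP D r w` : the torus of type `w` contains a regular element of order `r`;
* `one_of_reg` : if all labels of `χ` at `w` have order prime to `r`, they form one orbit of `CW D w`;
* `one_prime` : the same for `r > |W| ^ 2 + 1` if `χ` meets one label of order prime to `r`.
-/

set_option autoImplicit false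
set_option linter.unusedSectionVars false

namespace Cfsg.Agent.LV.One

open Cfsg Cfsg.Agent.DL Cfsg.Agent.DL.PP Cfsg.Agent.DL.Uni Cfsg.Agent.DL.Asm Cfsg.Agent.Nodes.Reps Matrix
  Cfsg.Agent.Characters.Core Cfsg.Agent.KZ.Lie

variable {p : ℕ} [Fact p.Prime] {k : Type} [Field k] [CharP k p] {Y : Type} [Group Y] {N : Type} [Fintype N]
  [DecidableEq N] {ρ : Y →* GL N k} {F : MulAut Y} {G : Subgroup Y} [IsAlgClosed k] {D : Datum p ρ F G}
  {r : ℕ} {w w' : D.W} {c c' c'' : Lbl D}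

variable (D r w) in
/-- the torus of type `w` contains a regular element of order `r` -/
def RegP : Prop := ∃ y : D.R → ℤ, (∀ i, (r : ℤ) ∣ ((D.Wm w * D.Mx - 1) *ᵥ y) i) ∧ ∀ a, D.Rt a → ¬ (r : ℤ) ∣ D.wt a ⬝ᵥ y

/-- an element of order prime to `r` which fixes a regular vector modulo `r` is trivial -/
theorem eq_one_of_fix (hr : r.Prime) {y : D.R → ℤ} (hy : ∀ a, D.Rt a → ¬ (r : ℤ) ∣ D.wt a ⬝ᵥ y) {v : D.W}
    (hv : ¬ r ∣ orderOf v) (h : ∀ i, (r : ℤ) ∣ ((D.Wm v - 1) *ᵥ y) i) : v = 1 := by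
  have h3 : ∀ n : ℕ, ∀ i, (r : ℤ) ∣ ((∑ t ∈ Finset.range n, D.Wm v ^ t) *ᵥ y - (n : ℤ) • y) i ∧
      (r : ℤ) ∣ (D.Wm v ^ n *ᵥ y - y) i := fun n => by
    induction n with
    | zero => simp
    | succ n ih =>
      refine fun i => ⟨?_, ?_⟩
      · rw [Finset.sum_range_succ, add_mulVec, Nat.cast_succ, add_smul, one_smul, add_sub_add_comm]
        exact dvd_add (ih i).1 (ih i).2
      · rw [show D.Wm v ^ (n + 1) *ᵥ y - y = D.Wm v ^ n *ᵥ ((D.Wm v - 1) *ᵥ y) + (D.Wm v ^ n *ᵥ y - y) by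
          rw [mulVec_mulVec, mul_sub, mul_one, sub_mulVec, ← pow_succ, sub_add_sub_cancel]]
        exact dvd_add (Finset.dvd_sum fun t _ => (h t).mul_left _) (ih i).2
  set μ := (∑ t ∈ Finset.range (orderOf v), D.Wm v ^ t) *ᵥ y with hμ
  have h1 : D.Wm v *ᵥ μ = μ := by
    have h4 := mul_geom_sum (D.Wm v) (orderOf v)
    rw [show D.Wm v ^ orderOf v = 1 from (map_pow D.WmHom v _).symm.trans (by rw [pow_orderOf_eq_one, map_one]),
      sub_self, sub_mul, one_mul, sub_eq_zero] at h4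
    rw [hμ, mulVec_mulVec, h4]
  refine Subgroup.mem_bot.1 (CF.mem_of_fix D
    (AddMonoidHom.mk' (fun b => D.wt b ⬝ᵥ μ) fun b c => by rw [map_add, add_dotProduct])
    (fun a ha e => absurd ?_ (hy a ha)) fun a => ?_)
  · have h4 : (r : ℤ) ∣ D.wt a ⬝ᵥ (μ - (orderOf v : ℤ) • y) := Finset.dvd_sum fun i _ => (h3 _ i).1.mul_left _
    rw [dotProduct_sub, show D.wt a ⬝ᵥ μ = 0 from e, zero_sub, dvd_neg, dotProduct_smul, smul_eq_mul] at h4
    exact (Nat.isCoprime_iff_coprime.2 (hr.coprime_iff_not_dvd.2 hv)).dvd_of_dvd_mul_left h4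
  · show D.wt (D.act v a) ⬝ᵥ μ = D.wt a ⬝ᵥ μ
    conv_lhs => rw [← h1, dotProduct_mulVec, D.wt_act]

/-- the regular element -/
theorem RegP.exists_elt (h : RegP D r w) (hr : r.Prime) (hp : r ≠ p) (hW : ¬ r ∣ Nat.card D.W) :
    ∃ x ∈ Tw D w ⊓ GF F G, x ^ r = 1 ∧ ∀ g ∈ G, g * x = x * g → g ∈ Tw D w := by
  obtain ⟨y, h1, h2⟩ := h
  have : NeZero ((r : ℕ) : k) := ⟨fun h => hp ((Nat.prime_dvd_prime_iff_eq Fact.out hr).1
    ((CharP.cast_eq_zero_iff k p _).1 h)).symm⟩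
  obtain ⟨ζ₀, h0⟩ := HasEnoughRootsOfUnity.exists_primitiveRoot k r
  have hζ := h0.isUnit_unit hr.ne_zero
  set ζ := (h0.isUnit hr.ne_zero).unit
  have hy := yw_mem D w
  have hw := yw_rp D w
  refine ⟨yw D w * D.τ (coch y ζ) * (yw D w)⁻¹, ⟨τ_mem_cj _ _, (D.conj hy ⟨w, hw⟩).T_le_G (τ_mem_cj _ _), ?_⟩, ?_,
    fun g hg hc => ?_⟩
  · show F _ = yw D w * _ * _
    rw [F_cj_τ hw, (mon_coch_iff hζ _ _).2 h1]
  · rw [conj_pow, ← map_pow, ← map_pow, hζ.pow_eq_one, map_one, map_one, mul_one, mul_inv_cancel]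
  have h3 : D.τ (coch y ζ) * ((yw D w)⁻¹ * g * yw D w) = (yw D w)⁻¹ * g * yw D w * D.τ (coch y ζ) := by
    calc _ = (yw D w)⁻¹ * (yw D w * D.τ (coch y ζ) * (yw D w)⁻¹ * g) * yw D w := by group
      _ = _ := by rw [← hc]; group
  obtain ⟨a, h4, m, hm, -, e⟩ := D.exists_cen_form (Z := {D.τ (coch y ζ)}) (Set.singleton_subset_iff.2 (D.τ_mem _))
    (mul_mem (mul_mem (inv_mem hy) hg) hy) fun t ht => by rw [Set.mem_singleton_iff.1 ht, h3]
  have h5 : D.S (D.Sz {D.τ (coch y ζ)}) ≤ ⊥ := Nodes.BNOf.RGD.Sup_le fun a ha => by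
    have h5 := ha.2 _ rfl
    rw [D.χ_τ, chr_coch, Units.val_eq_one, hζ.zpow_eq_one_iff_dvd] at h5
    exact absurd h5 (h2 a ha.1)
  rw [Subgroup.mem_bot.1 (h5 h4), one_mul] at e
  rw [Tw, mem_cj, e, ← D.pr_eq_one_iff hm]
  refine eq_one_of_fix hr h2 (fun h => hW (h.trans (orderOf_dvd_natCard _))) ((mon_coch_iff hζ _ _).1 (D.τ_inj ?_))
  rw [← D.conj_τ (D.rp_pr hm), ← e, ← h3, mul_inv_cancel_right]

theorem eq_of_le {T T' : Subgroup Y} (hT : T ∈ tori D) (hT' : T' ∈ tori D) (h : T' ≤ T) : T' = T := by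
  obtain ⟨y, hy, w, hw, rfl⟩ := exists_y hT
  obtain ⟨y', hy', w', hw', rfl⟩ := exists_y hT'
  refine le_antisymm h fun t ht => ?_
  exact (D.conj hy' ⟨w', hw'⟩).centralizer_T.le
    ⟨(D.conj hy ⟨w, hw⟩).T_le_G ht, fun s hs => (D.conj hy ⟨w, hw⟩).T_comm (h hs) ht⟩

variable (f : Fr D) [Fintype ↥(GF F G)] {χ : GF F G → ℂ}

/-- **One label at a regular torus.** -/
theorem one_of_reg (hr : r.Prime) (hp : r ≠ p) (hW : ¬ r ∣ Nat.card D.W) (hR : RegP D r w)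
    (hχ : IsIrrCharacter (GF F G) χ) (hl : ∀ c, classInner χ (RW f w c) ≠ 0 → ¬ r ∣ orderOf c)
    (h : classInner χ (RW f w c) ≠ 0) (h' : classInner χ (RW f w c') ≠ 0) : ∃ v ∈ CW D w, Rel D v c c' := by
  have : Fact r.Prime := ⟨hr⟩
  obtain ⟨x, hx, h1, h2⟩ := hR.exists_elt hr hp hW
  obtain ⟨St, hSt⟩ := DL.St.stD D
  have hy := yw_mem D w
  have hw := yw_rp D w
  have e : res (GF F G) (extendByZero (GF F G) χ) = χ := funext fun x => extendByZero_of_mem _ _ x.2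
  have h3 : ∀ {a : Lbl D} (ha : Fx D w a), res (GF F G) (R D (Tw D w) (lin (th_spec f ha).1.hom)) = RW f w a := fun ha =>
    funext fun g => (sys' D).R_congr (Tw_mem w) (th_spec f ha).1.lin_hom g g.2
  have hc := fx_of_ne f h
  have hc' := fx_of_ne f h'
  let K : Subgroup D.W :=
    { carrier := {v | Tc D v w w ∧ Rel D v c' c'}
      one_mem' := ⟨tc_one w, rel_one D _⟩
      mul_mem' := fun ha hb => ⟨(CW D w).mul_mem ha.1 hb.1, hb.2.trans ha.2⟩
      inv_mem' := fun ha => ⟨ha.1.symm, ha.2.symm⟩ }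
  have h4 := one_sys (r := r) (sys' D) hSt (Tw_mem w) hx ((Nat.dvd_prime_pow hr (m := 1)).1
      (by rw [pow_one]; exact orderOf_dvd_of_pow_eq_one h1) |>.imp fun _ h => h.2) (fun g hg => h2 g hg.1)
    (fun T' hT' hx' => by
      obtain ⟨y', hy', w', hw', rfl⟩ := exists_y hT'
      exact eq_of_le (Tw_mem w) hT' fun t ht =>
        h2 t ((D.conj hy' ⟨w', hw'⟩).T_le_G ht) ((D.conj hy' ⟨w', hw'⟩).T_comm ht hx'))
    (χ := extendByZero (GF F G) χ) (e.symm ▸ hχ)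
    (fun θ hθ h5 => by
      obtain ⟨a, ha⟩ := exists_lab f.L f.hζ hy hw (isLin_lin θ)
      rw [ip_eq_classInner, e, show res (GF F G) (R D (Tw D w) (lin θ)) = RW f w a from funext (R_eq_RW f hy hw ha)] at hθ
      refine hl a hθ (h5.trans (orderOf_dvd_of_pow_eq_one (MonoidHom.ext fun t => Units.ext ?_)))
      obtain ⟨z, hz⟩ := exists_nrm f.L f.hζ hy hw t.2
      rw [MonoidHom.pow_apply, Units.val_pow_eq_pow_val, ← lin_coe, hz, ha z, ← Units.val_pow_eq_pow_val, ← map_pow,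
        pow_orderOf_eq_one, map_one]
      rfl)
    (η := (th_spec f hc').1.hom) (η' := (th_spec f hc).1.hom) (by rwa [ip_eq_classInner, e, h3 hc'])
    (by rwa [ip_eq_classInner, e, h3 hc]) (n := Nat.card K) (by rw [ip_eq_classInner, h3 hc', RW_ip f hc' hc']; rfl)
    fun h5 => hW (h5.trans (Subgroup.card_subgroup_dvd_card K))
  rw [ip_eq_classInner, h3 hc, h3 hc', RW_ip f hc hc', Nat.cast_ne_zero] at h4
  obtain ⟨v, h5⟩ := (Nat.card_ne_zero.1 h4).1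
  exact ⟨v, h5⟩

/-- **One label at a regular torus**, for a large prime. -/
theorem one_prime (hr : r.Prime) (hp : r ≠ p) (hW : Nat.card D.W ^ 2 + 1 < r) (hR : RegP D r w)
    (hχ : IsIrrCharacter (GF F G) χ) (h0 : classInner χ (RW f w' c'') ≠ 0) (h1 : ¬ r ∣ orderOf c'')
    (h : classInner χ (RW f w c) ≠ 0) (h' : classInner χ (RW f w c') ≠ 0) : ∃ v ∈ CW D w, Rel D v c c' :=
  one_of_reg f hr hp (fun e => absurd (Nat.le_of_dvd Nat.card_pos e) (by nlinarith)) hR hχ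
    (fun _ => lab_reg f hr hW hχ h0 h1) h h'

end Cfsg.Agent.LV.One
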