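import Cfsg.Agent.LV.One.Blk
import Cfsg.Agent.DL.Uni.Val
import Cfsg.Agent.DL.Uni.Gp
import Cfsg.Agent.Blocks.ExistsModular

/-!
# LV, one label at a regular torus: the uniform layer (helper63)

* `one_sys` : if the torus `T` is the centraliser of an `r`-element and all characters `θ` of `T` which meet `χ` have order prime
  to `r`, then they are all conjugate.
-/

set_option autoImplicit false

namespace Cfsg.Agent.LV.One

open Cfsg Cfsg.Agent.Blocks.Local Cfsg.Agent.Blocks Cfsg.Agent.Characters.Core Cfsg.Agent.DL.Uni Cfsg.Agent.Nodes.Reps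

variable {r : ℕ} [hr : Fact r.Prime]

theorem exists_pow_eq {Γ : Type} [Group Γ] {s x : Γ} (hc : s * x = x * s) (hs : ¬ r ∣ orderOf s)
    (hx : ∃ j, orderOf x = r ^ j) : ∃ n : ℕ, (s * x) ^ n = x := by
  obtain ⟨j, hj⟩ := hx
  obtain ⟨n, h1, h2⟩ := Nat.chineseRemainder (hj ▸ ((hr.out.coprime_iff_not_dvd.2 hs).pow_left j).symm :
    (orderOf s).Coprime (orderOf x)) 0 1
  exact ⟨n, by rw [Commute.mul_pow hc, pow_eq_pow_iff_modEq.2 h1, pow_eq_pow_iff_modEq.2 h2, pow_zero, pow_one, one_mul]⟩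

variable {Γ : Type} [Group Γ] {p : ℕ} [Fact p.Prime] {H : Subgroup Γ} {A : Set (Subgroup Γ)}
  {R : Subgroup Γ → (Γ → ℂ) →ₗ[ℂ] (Γ → ℂ)} {St : Γ → ℂ} (S : Sys p H A R) (D : StD p H A R St) {T : Subgroup Γ}
  (hT : T ∈ A) {x : Γ} (hx : x ∈ T ⊓ H) (hxr : ∃ j, orderOf x = r ^ j) (hC : ∀ h ∈ H, h * x = x * h → h ∈ T)
  (hreg : ∀ T' ∈ A, x ∈ T' → T' = T)

omit [Fact p.Prime] in
include S hT in
theorem not_dvd_of_ip {η θ : ↥(T ⊓ H) →* ℂˣ} (hη : ¬ r ∣ orderOf η) (h : ip H (R T (lin η)) (R T (lin θ)) ≠ 0) :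
    ¬ r ∣ orderOf θ := by
  by_contra h0
  refine h (S.ip_R_R_eq_zero hT hT (isLin_lin η) (isLin_lin θ) fun h hh hc =>
    hη (h0.trans (orderOf_dvd_of_pow_eq_one (MonoidHom.ext fun t => Units.ext ?_))))
  have h1 : h⁻¹ * t * h ∈ T ⊓ H := ⟨mem_cj.1 (hc.1.symm ▸ t.2.1), H.mul_mem (H.mul_mem (H.inv_mem hh) t.2.2) hh⟩
  have h2 := hc.2 _ h1
  rw [show h * (h⁻¹ * t * h) * h⁻¹ = t by group, lin_coe, lin_apply η h1] at h2
  rw [MonoidHom.pow_apply, Units.val_pow_eq_pow_val, h2, ← Units.val_pow_eq_pow_val, ← MonoidHom.pow_apply,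
    pow_orderOf_eq_one]
  rfl

include S D hT hx hxr hreg in
/-- the values on the section of `x` -/
theorem val_sec [Fintype (↥(T ⊓ H) →* ℂˣ)] {f : Γ → ℂ} (hf : IsCls H f)
    (hl : ∀ θ : ↥(T ⊓ H) →* ℂˣ, ip H f (R T (lin θ)) ≠ 0 → ¬ r ∣ orderOf θ) (s : ↥(T ⊓ H)) (hs : ¬ r ∣ orderOf (s : Γ)) :
    f (s * x) = ∑ θ : ↥(T ⊓ H) →* ℂˣ, ip H f (R T (lin θ)) * θ s := by
  obtain ⟨n, hn⟩ := exists_pow_eq (S.comm T hT _ s.2 _ hx) hs hxr
  rw [D.apply_reg_sum S hT (mul_mem s.2 hx) (fun T' hT' h => hreg T' hT' (hn ▸ pow_mem h n)) hf]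
  refine Finset.sum_congr rfl fun θ _ => ?_
  by_cases h0 : ip H f (R T (lin θ)) = 0
  · rw [h0, zero_mul, zero_mul]
  · obtain ⟨j, hj⟩ := hxr
    have h1 : θ ⟨x, hx⟩ ^ r ^ j = 1 := by
      rw [← map_pow, ← hj, ← Subgroup.orderOf_mk x hx, pow_orderOf_eq_one, map_one]
    have h2 : θ ⟨x, hx⟩ ^ orderOf θ = 1 := by rw [← MonoidHom.pow_apply, pow_orderOf_eq_one, MonoidHom.one_apply]
    rw [(isLin_lin θ).mul _ s.2 _ hx, lin_coe, lin_apply θ hx,
      (pow_eq_one_iff_of_coprime ((hr.out.coprime_iff_not_dvd.2 (hl θ h0)).pow_left _)).1 ⟨h1, h2⟩, Units.val_one, mul_one]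

include S D hT hx hxr hC hreg in
/-- **One label**, uniform layer. -/
theorem one_sys {χ : Γ → ℂ} (hχ : IsIrrCharacter H (res H χ))
    (hl : ∀ θ : ↥(T ⊓ H) →* ℂˣ, ip H χ (R T (lin θ)) ≠ 0 → ¬ r ∣ orderOf θ) {η η' : ↥(T ⊓ H) →* ℂˣ}
    (h : ip H χ (R T (lin η)) ≠ 0) (h' : ip H χ (R T (lin η')) ≠ 0) {n : ℕ}
    (hn : ip H (R T (lin η)) (R T (lin η)) = n) (hrn : ¬ r ∣ n) : ip H (R T (lin η')) (R T (lin η)) ≠ 0 := by
  classical
  intro h0
  have := S.finH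
  have := S.finT T
  have := finite_hom (T ⊓ H)
  have := Fintype.ofFinite (↥(T ⊓ H) →* ℂˣ)
  have := Fintype.ofFinite H
  have := Fintype.ofFinite ↥(T ⊓ H)
  obtain ⟨M, hM⟩ := ExistsModular.exists_isPModular hr.out
  let K : Subgroup H := (T ⊓ H).subgroupOf H
  let e : K ≃* ↥(T ⊓ H) := Subgroup.subgroupOfEquivOfLe inf_le_right
  let θ : (↥(T ⊓ H) →* ℂˣ) → K →* ℂˣ := fun i => i.comp e.toMonoidHom
  have hθ : Function.Injective θ := fun a b h => MonoidHom.ext fun t => by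
    obtain ⟨t, rfl⟩ := e.surjective t
    exact DFunLike.congr_fun h t
  have hK : ∀ g : H, g ∈ K ↔ g * ⟨x, hx.2⟩ = ⟨x, hx.2⟩ * g := fun g =>
    ⟨fun h => Subtype.ext (S.comm T hT _ h _ hx), fun h => ⟨hC g g.2 (congrArg Subtype.val h), g.2⟩⟩
  have hc : ∀ a b : K, a * b = b * a := fun a b => Subtype.ext (Subtype.ext (S.comm T hT _ a.2 _ b.2))
  have h1 : ∀ (η : ↥(T ⊓ H) →* ℂˣ) (s : ↥(T ⊓ H)), ¬ r ∣ orderOf (s : Γ) →
      R T (lin η) (s * x) = indFun K (fun t => (θ η t : ℂ)) ⟨s * x, mul_mem s.2.2 hx.2⟩ := fun η s hs => by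
    obtain ⟨n, hn⟩ := exists_pow_eq (S.comm T hT _ s.2 _ hx) hs hxr
    have h2 := mul_mem s.2 hx
    rw [D.R_ss S hT _ h2.2 (S.ss T hT _ h2), D.st_reg S hT h2 fun T' hT' h => hreg T' hT' (hn ▸ pow_mem h n),
      mul_div_cancel_left₀ _ (D.eps_ne S hT), ind_apply, indFun_apply, Nat.card_congr e.toEquiv]
    congr 1
    refine Finset.sum_congr rfl fun y _ => ?_
    split_ifs with hy
    · rw [lin_apply η hy]
      exact (extendByZero_of_mem K (fun t => (θ η t : ℂ)) (g := y⁻¹ * ⟨s * x, mul_mem s.2.2 hx.2⟩ * y) hy).symm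
    · exact (extendByZero_of_notMem K _ hy).symm
  have h2 := four (K := ↥(T ⊓ H)) (fun a b => Subtype.ext (S.comm T hT _ a.2 _ b.2)) hM Function.injective_id
    (b := fun i => ip H (R T (lin η)) (R T (lin i)) - ip H (R T (lin η')) (R T (lin i)))
    (fun i hi => by
      by_cases h3 : ip H (R T (lin η)) (R T (lin i)) = 0
      · exact not_dvd_of_ip S hT (hl η' h') fun e => hi (sub_eq_zero.2 (h3.trans e.symm))
      · exact not_dvd_of_ip S hT (hl η h) h3)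
    (fun s hs => by
      rw [← Subgroup.orderOf_coe] at hs
      obtain ⟨n, hn⟩ := exists_pow_eq (S.comm T hT _ s.2 _ hx) hs hxr
      simp only [sub_mul, id]
      rw [Finset.sum_sub_distrib, ← val_sec S D hT hx hxr hreg (S.isCls_R hT _) (fun _ => not_dvd_of_ip S hT (hl η h)) s hs,
        ← val_sec S D hT hx hxr hreg (S.isCls_R hT _) (fun _ => not_dvd_of_ip S hT (hl η' h')) s hs, h1 η s hs, h1 η' s hs]
      refine ind_congr hM (x := ⟨x, hx.2⟩) (by simpa only [Subgroup.orderOf_mk] using hxr) hK hc hθ ⟨_, hχ⟩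
        (a := fun i => ip H χ (R T (lin i))) (fun i hi e' => hl i hi (e'.trans (orderOf_dvd_of_pow_eq_one ?_)))
        (fun t ht => val_sec S D hT hx hxr hreg (isCls_of_irr hχ) hl (e t) ?_) h h' ?_
      · exact MonoidHom.ext fun t => DFunLike.congr_fun (pow_orderOf_eq_one i) (e t)
      · rwa [← Subgroup.orderOf_coe, ← Subgroup.orderOf_coe] at ht
      · ext g
        rw [Subgroup.mem_centralizer_singleton_iff]
        refine ⟨fun h => (hK g).2 (Subtype.ext ?_), fun h => Subtype.ext (S.comm T hT _ h _ (mul_mem s.2 hx))⟩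
        have h4 : Commute (g : Γ) (s * x) := congrArg Subtype.val h
        have h5 := (h4.pow_right n).eq
        rwa [hn] at h5) η
  rw [h0, sub_zero, hn, memLocalIdeal_natCast_iff hM] at h2
  exact hrn h2

end Cfsg.Agent.LV.One
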