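import Cfsg.Agent.LV.One.All
import Cfsg.Agent.PQ.Sm.Gen
import Cfsg.Agent.Lib.SchurBound

/-!
# LV, the degree polynomial at a regular eigenvalue (helper63)

* `val_of_reg`, `deg_congr` : the value at a regular element of order `r` is the sum of the multiplicities;
* `LfD f χ g` : the multiplicities of `χ` occur for infinitely many powers of `F`, with degrees given by `g`;
* `val_reg` : the value of `g` at a regular eigenvalue of `w F` is the sum of the multiplicities at `w`;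
* `res_dvd` : a prime which divides the content of `g` divides this sum.
-/

set_option autoImplicit false
set_option linter.unusedSectionVars false

namespace Cfsg.Agent.LV.One

open Cfsg Cfsg.Agent.DL Cfsg.Agent.DL.PP Cfsg.Agent.DL.Uni Cfsg.Agent.DL.Asm Cfsg.Agent.Nodes.Reps Matrix
  Cfsg.Agent.Characters.Core Cfsg.Agent.KZ.Lie Polynomial

variable {p : ℕ} [Fact p.Prime] {k : Type} [Field k] [CharP k p] {Y : Type} [Group Y] {N : Type} [Fintype N]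
  [DecidableEq N] {ρ : Y →* GL N k} {F : MulAut Y} {G : Subgroup Y} [IsAlgClosed k] {D : Datum p ρ F G}
  {r : ℕ} {w : D.W} {μ : ℂ} {y : D.R → ℂ} (f : Fr D)

/-- regular elements of prime order in the tori of the powers of `F` -/
theorem exists_regP (hy : μ • (D.Wm w * D.Mx).map (Int.cast : ℤ → ℂ) *ᵥ y = y) (h0 : y ≠ 0)
    (hs : ∀ a, D.Rt a → (fun i => (D.wt a i : ℂ)) ⬝ᵥ y ≠ 0) {g : ℤ[X]} (hg : aeval μ g ≠ 0) (B : ℕ) :
    ∃ B' M : ℕ, M ≠ 0 ∧ ∀ (l j : ℕ) (hl : 0 < l), B' < l → l ≡ 1 [MOD M] → l = 1 + f.d * j →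
      ∃ r : ℕ, r.Prime ∧ B < r ∧ r ≠ p ∧ ¬ (r : ℤ) ∣ g.eval ((p : ℤ) ^ (f.e * j)) ∧ RegP (D.pow hl) r w := by
  classical
  have hp : p.Prime := Fact.out
  obtain ⟨n, t₀, h1, h2⟩ := exists_mod' f.L.d_pos hp f.L.e_pos (f.L.pow w) ((PP.Phi D).image D.wt) hy h0 (fun a ha => by
    obtain ⟨b, hb, rfl⟩ := Finset.mem_image.1 ha
    exact hs b ((mem_Phi D).1 hb)) hg B
  have hn : 0 < n := Nat.pos_of_ne_zero fun e => hp.ne_one (by simpa [e] using h1)
  have hd := f.L.d_pos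
  have he := f.L.e_pos
  refine ⟨f.d * t₀ + 1, f.d * n.totient, (mul_pos hd (Nat.totient_pos.2 hn)).ne', fun l j hl h3 h4 h7 => ?_⟩
  obtain ⟨i, rfl⟩ : n.totient ∣ j := Nat.dvd_of_mul_dvd_mul_left hd (by
    have := (Nat.modEq_iff_dvd' hl).1 h4.symm
    rwa [h7, Nat.add_sub_cancel_left] at this)
  have h8 : t₀ < n.totient * i := lt_of_mul_lt_mul_left (a := f.d) (by omega) (Nat.zero_le _)
  obtain ⟨r, hr, h9, h10, h11, z, h12, h13⟩ := h2 (p ^ (f.e * (n.totient * i)))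
    (dvd_pow_self p (mul_pos he (by omega)).ne')
    (by
      rw [mul_left_comm, pow_mul]
      simpa using (Nat.ModEq.pow_totient h1.symm).pow (f.e * i))
    (h8.trans_le ((Nat.le_mul_of_pos_left _ he).trans (Nat.lt_pow_self hp.one_lt).le))
  have h14 : D.Mx ^ l = ((p : ℤ) ^ (f.e * (n.totient * i))) • D.Mx := h7 ▸ pow_Mx f.L _
  refine ⟨r, hr, h9, h10, by exact_mod_cast h11, z, fun i => ?_,
    fun a ha => h13 _ (Finset.mem_image_of_mem _ ((mem_Phi D).2 ha))⟩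
  show (r : ℤ) ∣ ((D.Wm w * D.Mx ^ l - 1) *ᵥ z) i
  rw [h14, mul_smul_comm]
  exact_mod_cast h12 i

variable [Fintype ↥(GF F G)] {χ : GF F G → ℂ}

theorem tot_fin [Fintype (Blk.FS D w)] (χ : GF F G → ℂ) :
    ∑ᶠ c, classInner χ (RW f w c) = ∑ c : Blk.FS D w, classInner χ (RW f w c) :=
  (finsum_eq_sum_of_support_subset _ (s := Finset.univ.map (Function.Embedding.subtype (· ∈ Blk.FS D w))) fun c hc =>
    Finset.mem_map.2 ⟨⟨c, fx_of_ne f hc⟩, Finset.mem_univ _, rfl⟩).trans (Finset.sum_map _ _ _)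

theorem tot_int (hχ : IsGeneralizedCharacter (GF F G) χ) (w : D.W) : ∃ m : ℤ, ∑ᶠ c, classInner χ (RW f w c) = m := by
  have : Finite (Blk.FS D w) := finite_Fx D w
  have := Fintype.ofFinite (Blk.FS D w)
  choose m hm using inner_int f hχ w
  exact ⟨∑ c : Blk.FS D w, m c, by rw [tot_fin, Int.cast_sum]; exact Finset.sum_congr rfl fun c _ => hm c⟩

/-- the value at a regular element of order `r` -/
theorem val_of_reg (hr : r.Prime) (hp : r ≠ p) (hW : ¬ r ∣ Nat.card D.W) (hR : RegP D r w)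
    (hχ : IsIrrCharacter (GF F G) χ) (hl : ∀ c, classInner χ (RW f w c) ≠ 0 → ¬ r ∣ orderOf c) :
    ∃ x : GF F G, x ^ r = 1 ∧ χ x = ∑ᶠ c, classInner χ (RW f w c) := by
  have : Fact r.Prime := ⟨hr⟩
  obtain ⟨x, hx, h1, h2⟩ := hR.exists_elt hr hp hW
  obtain ⟨St, hSt⟩ := DL.St.stD D
  have hy := yw_mem D w
  have hw := yw_rp D w
  have e := PQ.Sm.res_ext χ
  have : Finite (Blk.FS D w) := finite_Fx D w
  have := Fintype.ofFinite (Blk.FS D w)
  have := (sys' D).finT (Tw D w)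
  have := finite_hom (Tw D w ⊓ GF F G)
  have := Fintype.ofFinite (↥(Tw D w ⊓ GF F G) →* ℂˣ)
  have h4 := val_sec (r := r) (sys' D) hSt (Tw_mem w) hx ((Nat.dvd_prime_pow hr (m := 1)).1
      (by rw [pow_one]; exact orderOf_dvd_of_pow_eq_one h1) |>.imp fun _ h => h.2)
    (fun T' hT' hx' => by
      obtain ⟨y', hy', w', hw', rfl⟩ := exists_y hT'
      exact eq_of_le (Tw_mem w) hT' fun t ht =>
        h2 t ((D.conj hy' ⟨w', hw'⟩).T_le_G ht) ((D.conj hy' ⟨w', hw'⟩).T_comm ht hx'))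
    (f := extendByZero (GF F G) χ) (isCls_of_irr (e.symm ▸ hχ))
    (fun θ hθ h5 => by
      obtain ⟨a, ha⟩ := exists_lab f.L f.hζ hy hw (isLin_lin θ)
      rw [ip_eq_classInner, e, show res (GF F G) (R D (Tw D w) (lin θ)) = RW f w a from funext (R_eq_RW f hy hw ha)] at hθ
      refine hl a hθ (h5.trans (orderOf_dvd_of_pow_eq_one (MonoidHom.ext fun t => Units.ext ?_)))
      obtain ⟨z, hz⟩ := exists_nrm f.L f.hζ hy hw t.2
      rw [MonoidHom.pow_apply, Units.val_pow_eq_pow_val, ← lin_coe, hz, ha z, ← Units.val_pow_eq_pow_val, ← map_pow,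
        pow_orderOf_eq_one, map_one]
      rfl) 1 (by rw [OneMemClass.coe_one, orderOf_one]; exact hr.not_dvd_one)
  refine ⟨⟨x, hx.2⟩, Subtype.ext h1, ?_⟩
  rw [tot_fin, PQ.Sm.tot_eq, fourier ((sys' D).comm _ (Tw_mem w)) (rst _ _ _ _) 1 (one_mem _), Finset.sum_apply,
    ← extendByZero_of_mem _ χ hx.2, ← one_mul x]
  exact h4.trans (Finset.sum_congr rfl fun θ _ => by
    rw [(sys' D).ip_rst (Tw_mem w), Pi.smul_apply, smul_eq_mul, lin_apply θ (one_mem _)]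
    rfl)

theorem deg_congr (hr : r.Prime) (hp : r ≠ p) (hW : ¬ r ∣ Nat.card D.W) (hR : RegP D r w)
    (hχ : IsIrrCharacter (GF F G) χ) (hl : ∀ c, classInner χ (RW f w c) ≠ 0 → ¬ r ∣ orderOf c) {m : ℤ}
    (hm : ∑ᶠ c, classInner χ (RW f w c) = m) : (r : ℤ) ∣ charDegree χ - m := by
  obtain ⟨x, h1, h2⟩ := val_of_reg f hr hp hW hR hχ hl
  exact Lib.SchurBound.dvd_sub_of_pow (isIrr_isCharacter hχ) hr (k := 1) (by rwa [pow_one])
    (deg_cast (isIrr_isCharacter hχ)).symm (h2.trans hm)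

variable (χ) in
/-- the multiplicities of `χ` occur for infinitely many powers of `F`, and `g` gives the degrees -/
def LfD (g : ℚ[X]) : Prop := ∀ B M : ℕ, M ≠ 0 → ∃ (l j : ℕ) (hl : 0 < l) (_ : Fintype ↥(GF (F ^ l) G)) (f' : Fr (D.pow hl))
  (χ' : GF (F ^ l) G → ℂ) (ε : ℂ), B < l ∧ l ≡ 1 [MOD M] ∧ l = 1 + f.d * j ∧ IsIrrCharacter (GF (F ^ l) G) χ' ∧
    (ε = 1 ∨ ε = -1) ∧ (∀ w c, classInner χ' (RW f' w c) = ε * classInner χ (RW f w c)) ∧
    ε * χ' 1 = aeval ((p : ℂ) ^ (f.e * j)) g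

theorem LfD.lf {g : ℚ[X]} (h : LfD f χ g) : Lf f χ := fun B M hM => by
  obtain ⟨l, j, hl, i, f', χ', ε, h1, h2, -, h3, h4, h5, -⟩ := h B M hM
  refine ⟨l, hl, i, f', χ', h1, h2, h3, fun w c => ?_⟩
  rw [h5, mul_ne_zero_iff_left (by rcases h4 with rfl | rfl <;> simp)]

/-- **The degree polynomial at a regular eigenvalue.** -/
theorem val_reg {g : ℚ[X]} (hL : LfD f χ g) (hχ : IsGeneralizedCharacter (GF F G) χ)
    (hy : μ • (D.Wm w * D.Mx).map (Int.cast : ℤ → ℂ) *ᵥ y = y) (h0 : y ≠ 0)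
    (hs : ∀ a, D.Rt a → (fun i => (D.wt a i : ℂ)) ⬝ᵥ y ≠ 0) : aeval μ g = ∑ᶠ c, classInner χ (RW f w c) := by
  obtain ⟨m, hm⟩ := tot_int f hχ w
  by_contra h
  obtain ⟨b, hb, h1⟩ := IsLocalization.integerNormalization_spec (nonZeroDivisors ℤ) g
  have h2 : ∀ z : ℂ, aeval z (IsLocalization.integerNormalization (nonZeroDivisors ℤ) g - C (b * m)) =
      b * (aeval z g - m) := fun z => by
    rw [map_sub, ← aeval_map_algebraMap ℚ, h1, aeval_C, map_zsmul, zsmul_eq_mul, mul_sub]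
    simp
  obtain ⟨B, M, hM, h3⟩ := exists_regP f hy h0 hs (g := IsLocalization.integerNormalization (nonZeroDivisors ℤ) g - C (b * m))
    (by
      rw [h2]
      exact mul_ne_zero (Int.cast_ne_zero.2 (nonZeroDivisors.ne_zero hb)) (sub_ne_zero.2 (hm ▸ h))) (ordT D w + Nat.card D.W)
  obtain ⟨l, j, hl, _, f', χ', ε, h4, h5, h6, h7, h8, h9, h10⟩ := hL B M hM
  obtain ⟨r, hr, h11, h12, h13, h14⟩ := h3 l j hl h4 h5 h6
  obtain ⟨η, rfl, hη⟩ : ∃ η : ℤ, ε = η ∧ η * η = 1 := by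
    rcases h8 with rfl | rfl
    exacts [⟨1, by simp, rfl⟩, ⟨-1, by simp, rfl⟩]
  have h15 := deg_congr (D := D.pow hl) (w := w) f' hr h12
    (fun e => absurd (Nat.le_of_dvd Nat.card_pos e) (by show ¬ r ≤ Nat.card D.W; omega)) h14 h7
    (fun a ha e => absurd (Nat.le_of_dvd (Int.natAbs_pos.2 (det_ne_zero D w))
      (e.trans (orderOf_dvd_ordT (fx_of_ne f (right_ne_zero_of_mul (h9 w a ▸ ha)))))) (by show ¬ r ≤ ordT D w; omega))
    (m := η * m) (by rw [Int.cast_mul, ← hm, mul_finsum]; exact finsum_congr (h9 w))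
  refine h13 ((h15.mul_left (b * η)).trans (dvd_of_eq (Int.cast_injective (α := ℂ) ?_)))
  have h16 := h2 ((p : ℂ) ^ (f.e * j))
  rw [← h10, ← deg_cast (isIrr_isCharacter h7), show ((p : ℂ) ^ (f.e * j)) = algebraMap ℤ ℂ ((p : ℤ) ^ (f.e * j)) by simp,
    aeval_algebraMap_apply, coe_aeval_eq_eval, algebraMap_int_eq, eq_intCast] at h16
  rw [h16]
  have h17 : (η : ℂ) * η = 1 := by exact_mod_cast hη
  push_cast
  linear_combination (-(b : ℂ) * m) * h17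

/-- **A prime which divides the content of the degree polynomial divides the sums at the regular classes.** -/
theorem res_dvd {g : ℚ[X]} (hL : LfD f χ g) (hχ : IsGeneralizedCharacter (GF F G) χ) (hR : RegE D w) [Nonempty D.I]
    {a b : ℤ} {g₀ : ℤ[X]} (hg : C (b : ℚ) * g = C (a : ℚ) * g₀.map (Int.castRingHom ℚ)) {l : ℕ} (hl : l.Prime) (hp : l ≠ p)
    (ha : (l : ℤ) ∣ a) (hb : ¬ (l : ℤ) ∣ b) {m : ℤ} (hm : ∑ᶠ c, classInner χ (RW f w c) = m) : (l : ℤ) ∣ m := by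
  obtain ⟨μ, y, hy, hs⟩ := hR
  obtain ⟨i⟩ := ‹Nonempty D.I›
  have h0 : y ≠ 0 := fun e => hs _ (Tits.Roots.isRoot_sr D.cs D.h i) (by rw [e, dotProduct_zero])
  have h1 := congrArg (aeval μ) hg
  rw [map_mul, map_mul, val_reg f hL hχ hy h0 hs, hm, aeval_C, aeval_C, show Int.castRingHom ℚ = algebraMap ℤ ℚ from rfl,
    aeval_map_algebraMap, map_intCast, map_intCast] at h1
  have h2 := eig_eq (f.L.pow w) hy h0
  have h3 : IsIntegral ℤ ((((p : ℤ) ^ f.e : ℤ) : ℂ) * μ) := IsIntegral.of_pow f.L.d_pos (by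
    rw [mul_pow, ← Nat.sub_add_cancel f.L.d_pos, pow_succ, mul_assoc, Nat.sub_add_cancel f.L.d_pos, mul_comm _ (μ ^ _), h2,
      mul_one, ← Int.cast_pow]
    exact isIntegral_algebraMap (R := ℤ))
  have h4 : IsIntegral ℤ ((((p : ℤ) ^ f.e : ℤ) : ℂ) ^ g₀.natDegree * aeval μ g₀) := by
    rw [aeval_eq_sum_range, Finset.mul_sum]
    refine IsIntegral.sum _ fun j hj => ?_
    obtain ⟨n, hn⟩ := Nat.exists_eq_add_of_le (Nat.lt_succ_iff.1 (Finset.mem_range.1 hj))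
    rw [hn, show (((p : ℤ) ^ f.e : ℤ) : ℂ) ^ (j + n) * g₀.coeff j • μ ^ j =
      ((((p : ℤ) ^ f.e) ^ n * g₀.coeff j : ℤ) : ℂ) * ((((p : ℤ) ^ f.e : ℤ) : ℂ) * μ) ^ j by
        rw [zsmul_eq_mul]
        push_cast
        ring]
    exact (isIntegral_algebraMap (R := ℤ)).mul (h3.pow j)
  obtain ⟨a, rfl⟩ := ha
  have h5 : (l : ℂ) ≠ 0 := Nat.cast_ne_zero.2 hl.ne_zero
  have h6 := (isIntegral_algebraMap (R := ℤ) (x := a)).mul h4
  rw [show algebraMap ℤ ℂ a * ((((p : ℤ) ^ f.e : ℤ) : ℂ) ^ g₀.natDegree * aeval μ g₀) =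
    algebraMap ℚ ℂ (((((p : ℤ) ^ f.e) ^ g₀.natDegree * (b * m) : ℤ) : ℚ) / l) by
      rw [map_div₀, map_intCast, map_natCast, eq_div_iff h5, Int.cast_mul, Int.cast_mul, h1]
      simp only [algebraMap_int_eq, eq_intCast]
      push_cast
      ring,
    isIntegral_algebraMap_iff (algebraMap ℚ ℂ).injective, IsIntegrallyClosed.isIntegral_iff] at h6
  obtain ⟨n, hn⟩ := h6
  rw [eq_div_iff (Nat.cast_ne_zero.2 hl.ne_zero), algebraMap_int_eq, eq_intCast] at hn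
  have h7 : (l : ℤ) ∣ ((p : ℤ) ^ f.e) ^ g₀.natDegree * (b * m) := ⟨n, by rw [mul_comm (l : ℤ)]; exact_mod_cast hn.symm⟩
  have h8 := Nat.prime_iff_prime_int.1 hl
  refine ((h8.dvd_or_dvd ((h8.dvd_or_dvd h7).resolve_left fun e => hp ?_)).resolve_left hb)
  exact (Nat.prime_dvd_prime_iff_eq hl Fact.out).1 (Int.natCast_dvd_natCast.1 (h8.dvd_of_dvd_pow (h8.dvd_of_dvd_pow e)))

end Cfsg.Agent.LV.One
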